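import Groth.Agent.FBase64.Components
import Groth.Agent.FBase64.Splitting
import Groth.Agent.VarGal.Residue
import Groth.Agent.WC97.Dim
import Mathlib.FieldTheory.PrimitiveElement
import Mathlib.AlgebraicGeometry.Morphisms.Flat
import Mathlib.FieldTheory.IsAlgClosed.AlgebraicClosure

/-!
Components of the preimage of an irreducible component in the base change to an algebraic closure.
-/

set_option autoImplicit false
set_option linter.style.haveILetI false

open CategoryTheory CategoryTheory.Limits AlgebraicGeometry

namespace Groth.Agent.LW24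

universe u

variable {k : Type u} [Field k] {X : Scheme.{u}} (f : X ⟶ Spec (CommRingCat.of k))

theorem residueFieldProp_kStr {x : X} {P : ∀ (K : Type u) [Field K] [Algebra k K], Prop}
    (h : FBase.ResidueFieldProp f x P) :
    letI := (WC97.kStr f x).toAlgebra
    P (X.residueField x) := by
  obtain ⟨φ, hφ, hP⟩ := h
  obtain rfl : φ = WC97.kStr f x :=
    congrArg CommRingCat.Hom.hom (Spec.map_injective (hφ.trans (WC97.kStr_spec f x).symm))
  exact hP

theorem essFiniteType_residueField [LocallyOfFiniteType f] (x : X) :
    letI := (WC97.kStr f x).toAlgebra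
    Algebra.EssFiniteType k (X.residueField x) :=
  residueFieldProp_kStr f (P := fun K _ _ => Algebra.EssFiniteType k K)
    (VarGal.residueFieldProp_essFiniteType f x)

theorem finite_separableClosure_residueField [LocallyOfFiniteType f] (x : X) :
    letI := (WC97.kStr f x).toAlgebra
    FiniteDimensional k (separableClosure k (X.residueField x)) :=
  residueFieldProp_kStr f (P := fun K _ _ => FiniteDimensional k (separableClosure k K))
    (VarGal.residueFieldProp_finite_separableClosure f x)

/-- Components of a closed preimage of an irreducible component. -/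
theorem card_components_eq_card_fibre {Z : Set X} (hZ : Z ∈ irreducibleComponents X)
    {W : Scheme.{u}} (π : W ⟶ X) [Flat π]
    (hdisc : ∀ a b : W, a ⤳ b → π a = π b → a = b) :
    Nat.card (irreducibleComponents (π.base ⁻¹' Z)) =
      Nat.card {z : W // π z = hZ.1.genericPoint} := by
  have hcl : IsClosed Z := isClosed_of_mem_irreducibleComponents _ hZ
  have hgen := hZ.1.isGenericPoint_genericPoint hcl
  set η := hZ.1.genericPoint
  have hηZ : η ∈ Z := hgen.mem
  have : QuasiSober (π.base ⁻¹' Z) :=
    (hcl.preimage π.continuous).isClosedEmbedding_subtypeVal.quasiSober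
  have hmem : ∀ z : {z : W // π z = η}, z.1 ∈ π.base ⁻¹' Z := fun z => by
    show π z.1 ∈ Z
    rw [z.2]; exact hηZ
  have hcomp : ∀ z : {z : W // π z = η},
      closure ({⟨z.1, hmem z⟩} : Set (π.base ⁻¹' Z)) ∈ irreducibleComponents (π.base ⁻¹' Z) := by
    intro z
    refine ⟨isIrreducible_singleton.closure, fun t ht hle => ?_⟩
    obtain ⟨w, hw⟩ := QuasiSober.sober ht.closure isClosed_closure
    have hwz : w ⤳ ⟨z.1, hmem z⟩ := hw.specializes (subset_closure (hle (subset_closure rfl)))
    have h1 : (w.1 : W) ⤳ z.1 := hwz.map continuous_subtype_val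
    have h2 : π w.1 = η := by
      have h3 : π w.1 ⤳ η := by
        have := h1.map π.continuous
        rwa [z.2] at this
      exact (h3.antisymm (hgen.specializes w.2)).eq
    have h4 : w = ⟨z.1, hmem z⟩ := Subtype.ext (hdisc _ _ h1 (h2.trans z.2.symm))
    rw [← h4, hw.def]
    exact subset_closure
  refine (Nat.card_congr (Equiv.ofBijective (fun z => (⟨_, hcomp z⟩ : irreducibleComponents (π.base ⁻¹' Z)))
    ⟨fun z z' h => ?_, fun T => ?_⟩)).symm
  · have h' : closure ({⟨z.1, hmem z⟩} : Set (π.base ⁻¹' Z)) = closure {⟨z'.1, hmem z'⟩} :=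
      congrArg Subtype.val h
    exact Subtype.ext (congrArg (fun p : π.base ⁻¹' Z => p.1)
      (((inseparable_iff_closure_eq.2 h').eq)))
  · obtain ⟨w, hw⟩ := QuasiSober.sober T.2.1 (isClosed_of_mem_irreducibleComponents _ T.2)
    obtain ⟨y', hy', he⟩ := Flat.generalizingMap π (hgen.specializes (show π w.1 ∈ Z from w.2))
    refine ⟨⟨y', he⟩, Subtype.ext ?_⟩
    show closure ({(⟨y', hmem ⟨y', he⟩⟩ : π.base ⁻¹' Z)} : Set (π.base ⁻¹' Z)) = T.1
    have hsub : T.1 ⊆ closure ({(⟨y', hmem ⟨y', he⟩⟩ : π.base ⁻¹' Z)} : Set (π.base ⁻¹' Z)) := by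
      rw [← hw.def]
      refine closure_minimal (Set.singleton_subset_iff.2 ?_) isClosed_closure
      rw [← specializes_iff_mem_closure]
      exact Topology.IsInducing.subtypeVal.specializes_iff.1 hy'
    exact Set.Subset.antisymm (T.2.2 isIrreducible_singleton.closure hsub) hsub

/-- The fibre over a maximal point. -/
theorem card_fibre_maximal [LocallyOfFiniteType f] [PerfectField k] (η : X) (hmax : ∀ w, w ⤳ η → w = η) :
    letI := (WC97.kStr f η).toAlgebra
    Nat.card {z : ↥(pullback f (Spec.map (CommRingCat.ofHom (algebraMap k (AlgebraicClosure k))))) //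
        pullback.fst f (Spec.map (CommRingCat.ofHom (algebraMap k (AlgebraicClosure k)))) z = η} =
      Module.finrank k (separableClosure k (X.residueField η)) := by
  letI := (WC97.kStr f η).toAlgebra
  have := finite_separableClosure_residueField f η
  let j : Spec (CommRingCat.of (X.residueField η)) ⟶ X := X.fromSpecResidueField η
  have hj : j ≫ f = Spec.map (CommRingCat.ofHom (algebraMap k (X.residueField η))) := (WC97.kStr_spec f η).symm
  have hr : Set.range j = {η} := Scheme.range_fromSpecResidueField η
  have sq := IsPullback.of_hasPullback f (Spec.map (CommRingCat.ofHom (algebraMap k (AlgebraicClosure k))))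
  have : Algebra.IsSeparable k (separableClosure k (X.residueField η)) :=
    separableClosure.isSeparable k (X.residueField η)
  rw [← AlgHom.natCard_of_splits k (separableClosure k (X.residueField η)) (AlgebraicClosure k)
    (fun _ => IsAlgClosed.splits _)]
  choose σ hσ using fun (z : {z : ↥(pullback f (Spec.map (CommRingCat.ofHom (algebraMap k (AlgebraicClosure k))))) //
      pullback.fst f (Spec.map (CommRingCat.ofHom (algebraMap k (AlgebraicClosure k)))) z = η}) =>
    FBase64.exists_isPointOf (κ := X.residueField η) sq j hj (z := z.1) (by rw [hr]; exact z.2)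
  refine Nat.card_congr (Equiv.ofBijective σ ⟨fun z z' h => Subtype.ext ?_, fun τ => ?_⟩)
  · exact FBase64.IsPointOf.eq_of_maximal (κ := X.residueField η) sq j hj hr hmax (hσ z) (h ▸ hσ z')
  · obtain ⟨z, hz⟩ := (FBase64.isIrreducible_setOf_isPointOf (κ := X.residueField η) sq j hj τ).nonempty
    have hzη : pullback.fst f _ z = η := by
      have := hz.apply_mem
      rwa [hr] at this
    have : Mono j := inferInstanceAs (Mono (X.fromSpecResidueField η))
    refine ⟨⟨z, hzη⟩, FBase64.IsPointOf.eq_of_image_eq j (pullback.fst f (Spec.map (CommRingCat.ofHom (algebraMap k (AlgebraicClosure k))))) (pullback.snd f (Spec.map (CommRingCat.ofHom (algebraMap k (AlgebraicClosure k))))) (RingHom.id (AlgebraicClosure k)) (𝟙 _)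
      (Category.id_comp _) ?_ (fun c => ⟨_, rfl⟩) (fun c => ⟨_, rfl⟩) (hσ ⟨z, hzη⟩) hz rfl⟩
    rw [CommRingCat.ofHom_id, Spec.map_id]
    simp

/-- The number of components of the preimage of a component in the geometric base change. -/
theorem card_components_preimage [LocallyOfFiniteType f] [PerfectField k] {Z : Set X}
    (hZ : Z ∈ irreducibleComponents X) :
    letI := (WC97.kStr f hZ.1.genericPoint).toAlgebra
    Nat.card (irreducibleComponents ((pullback.fst f (Spec.map (CommRingCat.ofHom
        (algebraMap k (AlgebraicClosure k))))).base ⁻¹' Z)) =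
      Module.finrank k (separableClosure k (X.residueField hZ.1.genericPoint)) := by
  have : Flat (pullback.fst f (Spec.map (CommRingCat.ofHom (algebraMap k (AlgebraicClosure k))))) :=
    FBase64.flat_of_isPullback (pr := pullback.fst f _) (IsPullback.of_hasPullback _ _)
  rw [card_components_eq_card_fibre hZ _ fun a b h e => FBase64.eq_of_specializes_fst f h e,
    card_fibre_maximal f _ (FBase64.maximal_genericPoint hZ)]

end Groth.Agent.LW24
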