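import Groth.Agent.LW24.PerComponent
import Groth.Agent.LW24.Components
import Groth.Agent.Zeta24.Count
import Mathlib.AlgebraicGeometry.IdealSheaf.Subscheme
import Mathlib.AlgebraicGeometry.Morphisms.FiniteType

/-!
Decomposing the points of a scheme along dense affine pieces of its top dimensional components.
-/

set_option autoImplicit false
set_option linter.style.haveILetI false

open CategoryTheory CategoryTheory.Limits AlgebraicGeometry TopologicalSpace

namespace Groth.Agent.LW24

universe u

variable {k : Type u} [Field k] {X : Scheme.{u}} (f : X ⟶ Spec (CommRingCat.of k))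

/-- The points of `X` with values in `k'`. -/
abbrev Pts (k' : Type u) [Field k'] [Algebra k k'] : Type u :=
  { g : Spec (CommRingCat.of k') ⟶ X // g ≫ f = Spec.map (CommRingCat.ofHom (algebraMap k k')) }

/-- The point of `X` underlying a `k'`-point. -/
noncomputable abbrev loc {k' : Type u} [Field k'] [Algebra k k'] (g : Pts f k') : X :=
  g.1 (IsLocalRing.closedPoint k' : ↥(Spec (CommRingCat.of k')))

theorem residueFieldMap_surjective {Y : Scheme.{u}} (ι : Y ⟶ X) [IsPreimmersion ι] (y : Y) :
    Function.Surjective (ι.residueFieldMap y).hom := fun a => by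
  obtain ⟨b, rfl⟩ := Y.residue_surjective y a
  obtain ⟨c, rfl⟩ := ι.stalkMap_surjective y b
  exact ⟨X.residue (ι y) c, congr($(Scheme.residue_residueFieldMap ι y).hom c)⟩

/-- Points lying in the image of a preimmersion. -/
theorem card_points_preimmersion {Y : Scheme.{u}} (ι : Y ⟶ X) [IsPreimmersion ι] (k' : Type u) [Field k']
    [Algebra k k'] :
    Nat.card {g : Pts f k' // loc f g ∈ Set.range ι} = SgaExt.pointCount (ι ≫ f) k' := by
  let push : {h : Spec (CommRingCat.of k') ⟶ Y // h ≫ ι ≫ f = Spec.map (CommRingCat.ofHom (algebraMap k k'))} →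
      {g : Pts f k' // loc f g ∈ Set.range ι} := fun h =>
    ⟨⟨h.1 ≫ ι, (Category.assoc _ _ _).trans h.2⟩, h.1 (IsLocalRing.closedPoint k' : ↥(Spec (CommRingCat.of k'))),
      (Scheme.Hom.comp_apply h.1 ι _).symm⟩
  refine (Nat.card_congr (Equiv.ofBijective push ⟨fun a b h => ?_, fun g => ?_⟩)).symm
  · exact Subtype.ext ((cancel_mono ι).1 (congrArg (fun p => p.1.1) h))
  · obtain ⟨⟨g, hg⟩, y, hy⟩ := g
    have : IsIso (ι.residueFieldMap y) := (ConcreteCategory.isIso_iff_bijective _).mpr
      ⟨RingHom.injective _, residueFieldMap_surjective ι y⟩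
    let φ := X.descResidueField (Scheme.stalkClosedPointTo g)
    let h : Spec (CommRingCat.of k') ⟶ Y :=
      Spec.map ((inv (ι.residueFieldMap y) ≫ (X.residueFieldCongr hy).hom) ≫ φ) ≫ Y.fromSpecResidueField y
    have hh : h ≫ ι = g := by
      rw [Category.assoc, ← Scheme.Hom.SpecMap_residueFieldMap_fromSpecResidueField, ← Spec.map_comp_assoc]
      simp only [IsIso.hom_inv_id_assoc, Category.assoc]
      rw [Spec.map_comp, Category.assoc, Scheme.residueFieldCongr_fromSpecResidueField]
      exact Scheme.descResidueField_stalkClosedPointTo_fromSpecResidueField _ _ g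
    exact ⟨⟨h, by rw [← Category.assoc, hh]; exact hg⟩, Subtype.ext (Subtype.ext hh)⟩

/-- The points in a dense affine piece of a component. -/
theorem piece_bound [Finite k] [LocallyOfFiniteType f] {U : X.Opens} (hU : IsAffineOpen U) (η : X) (hη : η ∈ U)
    (hgen : ∀ x ∈ U, η ⤳ x) :
    letI := (WC97.kStr f η).toAlgebra
    ∃ c : ℝ, 0 ≤ c ∧ ∀ (k' : Type u) [Field k'] [Algebra k k'] [Finite k'],
      (Module.finrank k (separableClosure k (X.residueField η)) ∣ Module.finrank k k' →
        |(Nat.card {g : Pts f k' // loc f g ∈ (U : Set X)} : ℝ) -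
            Module.finrank k (separableClosure k (X.residueField η)) * (Nat.card k' : ℝ) ^ WC97.tdegN f η| ≤
          c * ((Nat.card k' : ℝ) ^ WC97.tdegN f η / Real.sqrt (Nat.card k'))) ∧
      (¬ Module.finrank k (separableClosure k (X.residueField η)) ∣ Module.finrank k k' →
        (Nat.card {g : Pts f k' // loc f g ∈ (U : Set X)} : ℝ) ≤
          c * ((Nat.card k' : ℝ) ^ WC97.tdegN f η / Nat.card k')) := by
  letI := (WC97.kStr f η).toAlgebra
  letI : Algebra k Γ(X, U) := (WC97.kSec f hU).toAlgebra
  have : Algebra.FiniteType k Γ(X, U) := WC97.kSec_finiteType f hU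
  have := essFiniteType_residueField f η
  have := finite_separableClosure_residueField f η
  let ev : Γ(X, U) →ₐ[k] X.residueField η :=
    { (X.evaluation U η hη).hom with
      commutes' := fun a => (RingHom.congr_fun (WC97.kStr_eq f hU hη) a).symm }
  have hfull : IsFull ev.range := fun z => by
    obtain ⟨a, b, hb, hz⟩ := WC97.evaluation_div hU hη z
    exact ⟨⟨_, a, rfl⟩, ⟨_, b, rfl⟩, hb, hz⟩
  have hfg : ev.range.FG := by
    rw [← Algebra.map_top]
    exact Subalgebra.FG.map _ Algebra.FiniteType.out
  obtain ⟨c, hc0, hc⟩ := points_bound_general (k := k) (WC97.tdegN f η) (X.residueField η)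
    (WC97.tdeg_eq_natCast f η) ev.range hfg hfull
  have hker : ∀ (k' : Type u) [Field k'] [Algebra k k'] (φ : Γ(X, U) →ₐ[k] k'),
      RingHom.ker ev.rangeRestrict ≤ RingHom.ker φ := by
    intro k' _ _ φ
    have h1 : RingHom.ker ev.rangeRestrict = (hU.primeIdealOf ⟨η, hη⟩).asIdeal := by
      rw [← WC97.ker_evaluation hU hη]
      exact Ideal.ext fun a => Subtype.ext_iff
    let P : PrimeSpectrum Γ(X, U) := ⟨RingHom.ker φ, RingHom.ker_isPrime _⟩
    have h2 : hU.primeIdealOf ⟨η, hη⟩ ⤳ P := by
      refine hU.fromSpec.isOpenEmbedding.isInducing.specializes_iff.1 ?_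
      rw [hU.fromSpec_primeIdealOf]
      exact hgen _ ((Set.ext_iff.1 hU.range_fromSpec _).1 ⟨P, rfl⟩)
    rw [h1]
    exact (PrimeSpectrum.le_iff_specializes _ P).2 h2
  refine ⟨c, hc0, fun k' _ _ _ => ?_⟩
  have hcount : Nat.card {g : Pts f k' // loc f g ∈ (U : Set X)} = npts (k := k) ev.range k' := by
    have hs : Function.Surjective ev.rangeRestrict := fun z => by
      obtain ⟨a, ha⟩ := z.2
      exact ⟨a, Subtype.ext ha⟩
    have e : (ev.range →ₐ[k] k') ≃ (Γ(X, U) →ₐ[k] k') :=
      { toFun := fun ψ => ψ.comp ev.rangeRestrict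
        invFun := fun φ => AlgHom.liftOfSurjective ev.rangeRestrict hs φ (hker k' φ)
        left_inv := fun ψ => AlgHom.ext fun z => by
          obtain ⟨a, rfl⟩ := hs z
          exact AlgHom.liftOfSurjective_apply _ hs (ψ.comp ev.rangeRestrict) (hker k' _) a
        right_inv := fun φ => AlgHom.ext fun a => AlgHom.liftOfSurjective_apply _ hs φ (hker k' φ) a }
    rw [npts, Nat.card_congr e, ← Zeta24.pointCount_Spec Γ(X, U) k']
    have : Spec.map (CommRingCat.ofHom (algebraMap k Γ(X, U))) = hU.fromSpec ≫ f := Spec.map_preimage _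
    rw [this, ← card_points_preimmersion f hU.fromSpec k', hU.range_fromSpec]
  rw [hcount]
  exact hc k'

/-- The points in a closed subset of dimension less than `r`. -/
theorem remainder_bound [Finite k] [LocallyOfFiniteType f] [QuasiCompact f] {R : Set X} (hR : IsClosed R) (r : ℕ)
    (hr : ∀ l : LTSeries (IrreducibleCloseds R), l.length + 1 ≤ r) :
    ∃ c : ℝ, 0 ≤ c ∧ ∀ (k' : Type u) [Field k'] [Algebra k k'] [Finite k'],
      (Nat.card {g : Pts f k' // loc f g ∈ R} : ℝ) ≤ c * ((Nat.card k' : ℝ) ^ r / Nat.card k') := by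
  rcases R.eq_empty_or_nonempty with hRe | ⟨x, hx⟩
  · refine ⟨0, le_rfl, fun k' _ _ _ => ?_⟩
    have : IsEmpty {g : Pts f k' // loc f g ∈ R} :=
      ⟨fun g => Set.notMem_empty _ (show loc f g.1 ∈ (∅ : Set X) from hRe ▸ g.2)⟩
    simp
  obtain ⟨s, rfl⟩ : ∃ s, r = s + 1 := by
    have h := hr (RelSeries.singleton _ ⟨closure {⟨x, hx⟩}, isIrreducible_singleton.closure, isClosed_closure⟩)
    exact Nat.exists_eq_succ_of_ne_zero (by omega)
  let I := Scheme.IdealSheafData.vanishingIdeal (X := X) ⟨R, hR⟩
  let ι := I.subschemeι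
  have hrange : Set.range ι = R := by
    rw [Scheme.IdealSheafData.range_subschemeι, Scheme.IdealSheafData.coe_support_vanishingIdeal]; rfl
  have hdim : topologicalKrullDim I.subscheme ≤ s := by
    have h1 : Topology.IsInducing (fun y : I.subscheme => (⟨ι y, hrange.le ⟨y, rfl⟩⟩ : R)) :=
      Topology.IsInducing.of_comp (by fun_prop) continuous_subtype_val ι.isEmbedding.isInducing
    refine h1.topologicalKrullDim_le.trans (iSup_le fun l => ?_)
    have := hr l
    exact_mod_cast (by omega : l.length ≤ s)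
  obtain ⟨c, hc⟩ := S13062.result (ι ≫ f) s hdim
  refine ⟨c, Nat.cast_nonneg c, fun k' _ _ _ => ?_⟩
  have : Module.Finite k k' := Module.Finite.of_finite
  have h := hc k'
  rw [← card_points_preimmersion f ι k', hrange, pow_mul', ← Module.natCard_eq_pow_finrank (K := k) (V := k')] at h
  rw [pow_succ, mul_div_assoc, div_self (Nat.cast_ne_zero.2 Nat.card_pos.ne'), mul_one]
  exact_mod_cast h

/-- Outside dense pieces of the top dimensional components the dimension drops. -/
theorem length_add_one_le (r : ℕ) (hdim : topologicalKrullDim X = r) {R : Set X} (hR : IsClosed R)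
    (htop : ∀ Z ∈ irreducibleComponents X, topologicalKrullDim Z = r → ¬ Z ⊆ R)
    (l : LTSeries (IrreducibleCloseds R)) : l.length + 1 ≤ r := by
  let l' : LTSeries (IrreducibleCloseds X) :=
    l.map _ (IrreducibleCloseds.map_strictMono_of_isInducing (f := (Subtype.val : R → X)) Topology.IsInducing.subtypeVal)
  have hlast : (l'.last : Set X) ⊆ R := closure_minimal (by simp) hR
  obtain ⟨Z, hZ, hsub⟩ := exists_mem_irreducibleComponents_subset_of_isIrreducible _ l'.last.isIrreducible
  by_cases hZr : topologicalKrullDim Z = r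
  · let T : IrreducibleCloseds X := ⟨Z, hZ.1, isClosed_of_mem_irreducibleComponents _ hZ⟩
    have hlt : l'.last < T := lt_of_le_of_ne hsub fun he => htop Z hZ hZr (by
      have : (l'.last : Set X) = Z := congrArg (fun S : IrreducibleCloseds X => (S : Set X)) he
      exact this ▸ hlast)
    have h : (((l'.snoc T hlt).length : ℕ) : WithBot ℕ∞) ≤ r :=
      le_of_le_of_eq (Order.LTSeries.length_le_krullDim (l'.snoc T hlt)) hdim
    rw [RelSeries.snoc_length] at h
    exact_mod_cast h
  · have h1 : (l'.length : WithBot ℕ∞) ≤ topologicalKrullDim Z :=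
      TopDim50.length_le_dim_of_closed (isClosed_of_mem_irreducibleComponents _ hZ) l' hsub
    have h2 : (l'.length : WithBot ℕ∞) < r :=
      lt_of_le_of_lt h1 (lt_of_le_of_ne (le_of_le_of_eq (topologicalKrullDim_subspace_le X Z) hdim) hZr)
    have h3 : l'.length < r := by exact_mod_cast h2
    exact h3

end Groth.Agent.LW24
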