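import Groth.Agent.Zeta24.ProjSpace
import Groth.Agent.S13062
import Groth.Agent.E4O.DimField
import Mathlib.RingTheory.AlgebraicIndependent.TranscendenceBasis
import Mathlib.RingTheory.KrullDimension.NonZeroDivisors
import Mathlib.AlgebraicGeometry.AffineScheme

/-!
Birational invariance of the main term of the point count.
-/

set_option autoImplicit false
set_option linter.style.haveILetI false

open CategoryTheory AlgebraicGeometry

namespace Groth.Agent.LW24

universe u

variable {k : Type u} [Field k]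

/-- Number of `k'`-points. -/
noncomputable def npts (B : Type u) [CommRing B] [Algebra k B] (k' : Type u) [Field k'] [Algebra k k'] : ℕ :=
  Nat.card (B →ₐ[k] k')

theorem finite_algHom (B : Type u) [CommRing B] [Algebra k B] [Algebra.FiniteType k B] (k' : Type u) [Field k']
    [Algebra k k'] [Finite k'] : Finite (B →ₐ[k] k') := by
  obtain ⟨s, hs⟩ := Algebra.FiniteType.out (R := k) (A := B)
  exact Finite.of_injective (fun φ : B →ₐ[k] k' => fun b : s => φ b) fun φ ψ h =>
    AlgHom.ext_of_adjoin_eq_top hs fun b hb => congr_fun h ⟨b, hb⟩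

theorem npts_le_of_dim [Finite k] (B : Type u) [CommRing B] [Algebra k B] [Algebra.FiniteType k B] (n : ℕ)
    (hn : ringKrullDim B ≤ n) :
    ∃ c : ℕ, ∀ (k' : Type u) [Field k'] [Algebra k k'] [Finite k'], npts (k := k) B k' ≤ c * Nat.card k' ^ n := by
  let f := Spec.map (CommRingCat.ofHom (algebraMap k B))
  have : LocallyOfFiniteType f := (HasRingHomProperty.Spec_iff (P := @LocallyOfFiniteType)).2
    (RingHom.finiteType_algebraMap.2 inferInstance)
  have hd : topologicalKrullDim (Spec (CommRingCat.of B)) ≤ n :=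
    (le_of_eq (PrimeSpectrum.topologicalKrullDim_eq_ringKrullDim _)).trans hn
  obtain ⟨c, hc⟩ := S13062.result f n hd
  refine ⟨c, fun k' _ _ _ => ?_⟩
  have h := hc k'
  rw [Zeta24.pointCount_Spec] at h
  have : Module.Finite k k' := Module.Finite.of_finite
  rw [pow_mul', ← Module.natCard_eq_pow_finrank (K := k) (V := k')] at h
  exact h

variable {L : Type u} [Field L] [Algebra k L]

/-- Points avoiding the zero set of an element. -/
theorem npts_split (S : Subalgebra k L) (hS : S.FG) (v : S) (k' : Type u) [Field k'] [Algebra k k'] [Finite k'] :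
    npts (k := k) S k' = Nat.card {φ : S →ₐ[k] k' // φ v ≠ 0} + npts (k := k) (S ⧸ Ideal.span {v}) k' := by
  classical
  have : Algebra.FiniteType k S := (Subalgebra.fg_iff_finiteType S).1 hS
  have := finite_algHom (k := k) S k'
  have e : {φ : S →ₐ[k] k' // φ v = 0} ≃ ((S ⧸ Ideal.span {v}) →ₐ[k] k') :=
    { toFun := fun φ => Ideal.Quotient.liftₐ (Ideal.span {v}) φ.1 (fun a ha => by
        obtain ⟨b, rfl⟩ := Ideal.mem_span_singleton'.1 ha
        rw [map_mul, φ.2, mul_zero])
      invFun := fun ψ => ⟨ψ.comp (Ideal.Quotient.mkₐ k _), by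
        rw [AlgHom.comp_apply, Ideal.Quotient.mkₐ_eq_mk, Ideal.Quotient.eq_zero_iff_mem.2
          (Ideal.mem_span_singleton_self v), map_zero]⟩
      left_inv := fun φ => Subtype.ext (AlgHom.ext fun a => rfl)
      right_inv := fun ψ => AlgHom.ext fun a => by
        obtain ⟨a, rfl⟩ := Ideal.Quotient.mk_surjective a
        rfl }
  rw [npts, npts, ← Nat.card_congr e, add_comm, ← Nat.card_sum]
  exact Nat.card_congr (Equiv.sumCompl _).symm

theorem div_card_le (r : ℕ) (Q : ℕ) (hQ : 0 < Q) : (Q : ℝ) ^ r / Q ≤ (Q : ℝ) ^ r / Real.sqrt Q := by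
  have h1 : (1 : ℝ) ≤ Q := by exact_mod_cast hQ
  refine div_le_div_of_nonneg_left (by positivity) (Real.sqrt_pos.2 (by linarith)) ?_
  nlinarith [Real.mul_self_sqrt (zero_le_one.trans h1), Real.one_le_sqrt.2 h1]

theorem exists_bound_sub [Finite k] (r : ℕ) (hr : Algebra.trdeg k L ≤ r) (S : Subalgebra k L) (hS : S.FG)
    (v : S) (hv : v ≠ 0) :
    ∃ c : ℝ, ∀ (k' : Type u) [Field k'] [Algebra k k'] [Finite k'],
      (npts (k := k) (S ⧸ Ideal.span {v}) k' : ℝ) ≤ c * ((Nat.card k' : ℝ) ^ r / Nat.card k') := by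
  by_cases hu : IsUnit v
  · refine ⟨0, fun k' _ _ _ => ?_⟩
    have : IsEmpty ((S ⧸ Ideal.span {v}) →ₐ[k] k') := ⟨fun ψ => by
      have : Subsingleton (S ⧸ Ideal.span {v}) := Ideal.Quotient.subsingleton_iff.2 (Ideal.span_singleton_eq_top.2 hu)
      exact one_ne_zero (α := k') (by rw [← map_one ψ, Subsingleton.elim (1 : S ⧸ Ideal.span {v}) 0, map_zero])⟩
    simp [npts]
  have : Algebra.FiniteType k S := (Subalgebra.fg_iff_finiteType S).1 hS
  have : IsNoetherianRing S := Algebra.FiniteType.isNoetherianRing k S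
  have hdim : ringKrullDim S ≤ r := by
    rw [E4O.ringKrullDim_eq_trdeg k S]
    have h1 := (trdeg_le_of_injective S.val Subtype.val_injective).trans hr
    have h5 := Cardinal.toNat_le_toNat h1 Cardinal.natCast_lt_aleph0
    rw [Cardinal.toNat_natCast] at h5
    exact_mod_cast h5
  have h2 := (ringKrullDim_quotient_succ_le_of_nonZeroDivisor (mem_nonZeroDivisors_of_ne_zero hv)).trans hdim
  have : Nontrivial (S ⧸ Ideal.span {v}) :=
    Ideal.Quotient.nontrivial_iff.2 (fun h => hu (Ideal.span_singleton_eq_top.1 h))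
  have h0 : (0 : WithBot ℕ∞) ≤ ringKrullDim (S ⧸ Ideal.span {v}) := ringKrullDim_nonneg_of_nontrivial
  rcases r with _ | s
  · exfalso
    have h3 := (add_le_add h0 le_rfl).trans h2
    norm_num at h3
  have h4 : ringKrullDim (S ⧸ Ideal.span {v}) ≤ (s : ℕ) := by
    revert h2
    generalize ringKrullDim (S ⧸ Ideal.span {v}) = d
    intro h2
    cases d with
    | bot => exact bot_le
    | coe d =>
      cases d with
      | top => exact absurd h2 (by rw [show ((⊤ : ℕ∞) : WithBot ℕ∞) + 1 = ((⊤ : ℕ∞) : WithBot ℕ∞) from rfl]; exact not_le.2 (WithBot.coe_lt_coe.2 (WithTop.coe_lt_top _)))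
      | coe d =>
        have h6 : d + 1 ≤ s + 1 := by exact_mod_cast h2
        exact_mod_cast (by omega : d ≤ s)
  obtain ⟨c, hc⟩ := npts_le_of_dim (k := k) (S ⧸ Ideal.span {v}) s h4
  refine ⟨c, fun k' _ _ _ => ?_⟩
  refine (Nat.cast_le.2 (hc k')).trans ?_
  push_cast
  refine mul_le_mul_of_nonneg_left ?_ (Nat.cast_nonneg _)
  rw [pow_succ, mul_div_assoc, div_self (Nat.cast_ne_zero.2 Nat.card_pos.ne'), mul_one]

/-- All fractions of a subalgebra. -/
def IsFull (S : Subalgebra k L) : Prop := ∀ z : L, ∃ a b : S, (b : L) ≠ 0 ∧ z = a / b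

theorem IsFull.mono {S T : Subalgebra k L} (h : S ≤ T) (hS : IsFull S) : IsFull T := fun z => by
  obtain ⟨a, b, hb, hz⟩ := hS z
  exact ⟨⟨a, h a.2⟩, ⟨b, h b.2⟩, hb, hz⟩

theorem exists_bound_le [Finite k] (r : ℕ) (hr : Algebra.trdeg k L ≤ r) (S T : Subalgebra k L) (hS : S.FG)
    (hT : T.FG) (hle : S ≤ T) (hfull : IsFull S) :
    ∃ c : ℝ, ∀ (k' : Type u) [Field k'] [Algebra k k'] [Finite k'],
      |(npts (k := k) T k' : ℝ) - npts (k := k) S k'| ≤ c * ((Nat.card k' : ℝ) ^ r / Nat.card k') := by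
  classical
  obtain ⟨t, ht⟩ := hT
  choose a b hb hab using hfull
  let v : S := ∏ z ∈ t, b z
  have hv : v ≠ 0 := Finset.prod_ne_zero_iff.2 fun z _ h => hb z (by rw [h]; rfl)
  let v' : T := Subalgebra.inclusion hle v
  have hv' : v' ≠ 0 := fun h => hv (Subalgebra.inclusion_injective hle (h.trans (map_zero _).symm))
  let j : Localization.Away v →ₐ[k] L :=
    IsLocalization.liftAlgHom (M := Submonoid.powers v) (f := S.val) (fun y => by
      obtain ⟨n, hn⟩ := y.2
      refine IsUnit.mk0 _ fun h => hv ?_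
      have h' : (v ^ n : S) = 0 := Subtype.ext (by rw [show v ^ n = (y : S) from hn]; exact h)
      exact pow_eq_zero_iff'.1 h' |>.1)
  have hjS : ∀ x : S, j (algebraMap S (Localization.Away v) x) = x := fun x => IsLocalization.lift_eq _ x
  have hjinj : Function.Injective j := by
    refine (IsLocalization.lift_injective_iff _).2 fun x y => ⟨fun h => ?_, fun h => ?_⟩
    · exact congrArg S.val (IsLocalization.injective (Localization.Away v)
        (powers_le_nonZeroDivisors_of_noZeroDivisors hv) h)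
    · exact congrArg (algebraMap S (Localization.Away v)) (Subtype.ext h)
  have hTj : T ≤ j.range := by
    rw [← ht]
    refine Algebra.adjoin_le fun z hz => ?_
    have hu : IsUnit (algebraMap S (Localization.Away v) (b z)) :=
      isUnit_of_dvd_unit (map_dvd _ (Finset.dvd_prod_of_mem b hz)) (IsLocalization.Away.algebraMap_isUnit v)
    refine ⟨algebraMap S (Localization.Away v) (a z) * ↑hu.unit⁻¹, ?_⟩
    show j _ = z
    have hinv : j ↑hu.unit⁻¹ = (b z : L)⁻¹ :=
      eq_inv_of_mul_eq_one_left (by rw [← hjS (b z), ← map_mul, hu.val_inv_mul, map_one])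
    rw [map_mul, hjS, hinv, ← div_eq_mul_inv]
    exact (hab z).symm
  have hTfg : T.FG := ⟨t, ht⟩
  obtain ⟨c₁, h₁⟩ := exists_bound_sub r hr S hS v hv
  obtain ⟨c₂, h₂⟩ := exists_bound_sub r hr T hTfg v' hv'
  refine ⟨c₁ + c₂, fun k' _ _ _ => ?_⟩
  have : Algebra.FiniteType k S := (Subalgebra.fg_iff_finiteType S).1 hS
  have : Algebra.FiniteType k T := (Subalgebra.fg_iff_finiteType T).1 hTfg
  have := finite_algHom (k := k) S k'
  have := finite_algHom (k := k) T k'
  let res : {φ : T →ₐ[k] k' // φ v' ≠ 0} → {φ : S →ₐ[k] k' // φ v ≠ 0} := fun φ =>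
    ⟨φ.1.comp (Subalgebra.inclusion hle), φ.2⟩
  have hbij : Function.Bijective res := by
    constructor
    · rintro ⟨φ, hφ⟩ ⟨φ', hφ'⟩ h
      have h' : ∀ x : S, φ (Subalgebra.inclusion hle x) = φ' (Subalgebra.inclusion hle x) :=
        fun x => DFunLike.congr_fun (congrArg Subtype.val h) x
      refine Subtype.ext (AlgHom.ext fun x => ?_)
      obtain ⟨w, hw⟩ := hTj x.2
      obtain ⟨⟨y, _, n, rfl⟩, hy⟩ := IsLocalization.surj (Submonoid.powers v) w
      have hxv : x * v' ^ n = Subalgebra.inclusion hle y := by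
        refine Subtype.ext ?_
        have := congrArg j hy
        rw [map_mul, hjS, hjS] at this
        simpa [v', ← hw] using this
      have e1 := congrArg φ hxv
      have e2 := congrArg φ' hxv
      rw [map_mul, map_pow] at e1 e2
      rw [h' y, show φ v' = φ' v' from h' v] at e1
      rw [← e2] at e1
      exact mul_right_cancel₀ (pow_ne_zero n hφ') e1
    · rintro ⟨ψ, hψ⟩
      let ψ' : Localization.Away v →ₐ[k] k' :=
        IsLocalization.liftAlgHom (M := Submonoid.powers v) (f := ψ) (fun y => by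
          obtain ⟨n, hn⟩ := y.2
          rw [show (y : S) = v ^ n from hn.symm, map_pow]
          exact IsUnit.mk0 _ (pow_ne_zero _ hψ))
      let φ : T →ₐ[k] k' := ψ'.comp ((AlgEquiv.ofInjective j hjinj).symm.toAlgHom.comp (Subalgebra.inclusion hTj))
      have hφ : φ.comp (Subalgebra.inclusion hle) = ψ := AlgHom.ext fun x => by
        show ψ' ((AlgEquiv.ofInjective j hjinj).symm _) = ψ x
        refine Eq.trans (congrArg ψ' ?_) (IsLocalization.lift_eq _ x)
        refine (AlgEquiv.ofInjective j hjinj).injective ?_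
        rw [AlgEquiv.apply_symm_apply]
        exact Subtype.ext (hjS x).symm
      refine ⟨⟨φ, ?_⟩, Subtype.ext hφ⟩
      show (φ.comp (Subalgebra.inclusion hle)) v ≠ 0
      rwa [hφ]
  have hcard := Nat.card_congr (Equiv.ofBijective res hbij)
  have e1 := npts_split (k := k) S hS v k'
  have e2 := npts_split (k := k) T hTfg v' k'
  rw [e1, e2, hcard, add_mul]
  push_cast
  rw [abs_le]
  have a1 := h₁ k'
  have a2 := h₂ k'
  have b1 : (0 : ℝ) ≤ npts (k := k) (S ⧸ Ideal.span {v}) k' := Nat.cast_nonneg _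
  have b2 : (0 : ℝ) ≤ npts (k := k) (T ⧸ Ideal.span {v'}) k' := Nat.cast_nonneg _
  constructor <;> linarith

/-- Birational invariance. -/
theorem exists_bound_birational [Finite k] (r : ℕ) (hr : Algebra.trdeg k L ≤ r) (S T : Subalgebra k L)
    (hS : S.FG) (hT : T.FG) (hfS : IsFull S) (hfT : IsFull T) :
    ∃ c : ℝ, ∀ (k' : Type u) [Field k'] [Algebra k k'] [Finite k'],
      |(npts (k := k) T k' : ℝ) - npts (k := k) S k'| ≤ c * ((Nat.card k' : ℝ) ^ r / Nat.card k') := by
  obtain ⟨c₁, h₁⟩ := exists_bound_le r hr S (S ⊔ T) hS (hS.sup hT) le_sup_left hfS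
  obtain ⟨c₂, h₂⟩ := exists_bound_le r hr T (S ⊔ T) hT (hS.sup hT) le_sup_right hfT
  refine ⟨c₁ + c₂, fun k' _ _ _ => ?_⟩
  rw [add_mul]
  have a1 := abs_le.1 (h₁ k')
  have a2 := abs_le.1 (h₂ k')
  rw [abs_le]
  constructor <;> linarith

end Groth.Agent.LW24
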