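import Groth.Agent.LW24.Curves
import Mathlib.FieldTheory.PurelyInseparable.PerfectClosure
import Mathlib.FieldTheory.PrimitiveElement
import Mathlib.RingTheory.AdjoinRoot

/-!
A separable plane model over an algebraically closed subfield is absolutely irreducible.
-/

set_option autoImplicit false
set_option linter.style.haveILetI false

open Polynomial
open scoped Polynomial.Bivariate IntermediateField

namespace Groth.Agent.LW24

universe u

theorem irreducible_map_of_closed {K L : Type u} [Field K] [Field L] [Algebra K L]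
    (hclosed : ∀ z : L, IsAlgebraic K z → z ∈ Set.range (algebraMap K L)) {q : K[X]} (hq : q.Monic)
    (hirr : Irreducible q) : Irreducible (q.map (algebraMap K L)) := by
  rw [(hq.map _).irreducible_iff_natDegree]
  have hq1 := hq.irreducible_iff_natDegree.1 hirr
  refine ⟨fun h => hq1.1 (Polynomial.map_injective _ (algebraMap K L).injective (h.trans (Polynomial.map_one _).symm)),
    fun A A' hA hA' hAA => ?_⟩
  have hcoef : ∀ (P Q : L[X]), P.Monic → Q.Monic → P * Q = q.map (algebraMap K L) →
      P ∈ Polynomial.lifts (algebraMap K L) := by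
    intro P Q hP hQ hPQ
    rw [Polynomial.lifts_iff_coeff_lifts]
    intro i
    refine hclosed _ (IsIntegral.isAlgebraic ?_)
    exact isIntegral_coeff_of_dvd q P hq hP ⟨Q, hPQ.symm⟩ i
  obtain ⟨B, hB, -, hBm⟩ := lifts_and_natDegree_eq_and_monic (hcoef A A' hA hA' hAA) hA
  obtain ⟨B', hB', -, hBm'⟩ := lifts_and_natDegree_eq_and_monic (hcoef A' A hA' hA (mul_comm A' A ▸ hAA)) hA'
  have := hq1.2 B B' hBm hBm' (Polynomial.map_injective _ (algebraMap K L).injective (by
    rw [Polynomial.map_mul, hB, hB', hAA]))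
  rwa [← hB, ← hB', hBm.natDegree_map, hBm'.natDegree_map]

set_option maxHeartbeats 1000000 in
/-- Absolute irreducibility of a separable model. -/
theorem irreducible_map_algClosure {K L : Type u} [Field K] [Field L] [Algebra K L] (p : ℕ) [Fact p.Prime]
    [CharP K p] (hclosed : ∀ z : L, IsAlgebraic K z → z ∈ Set.range (algebraMap K L))
    {x y : L} (hx : Transcendental K x) {g : K[X][Y]} (hg : g.Monic) (hm : 0 < g.natDegree)
    (hroot : g.eval₂ (aeval (R := K) x).toRingHom y = 0) (hsep : IsSeparable K⟮x⟯ y)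
    (hdeg : (minpoly K⟮x⟯ y).natDegree = g.natDegree) :
    Irreducible (g.map (mapRingHom (algebraMap K (AlgebraicClosure K)))) := by
  classical
  set Kb := AlgebraicClosure K
  set m := g.natDegree with hmdef
  rw [(hg.map _).irreducible_iff_natDegree]
  refine ⟨fun h => ?_, fun A A' hA hA' hAA => ?_⟩
  · have := congrArg natDegree h
    rw [hg.natDegree_map, natDegree_one] at this
    omega
  by_contra hne
  push Not at hne
  have hsum := congrArg natDegree hAA
  rw [hA.natDegree_mul hA', hg.natDegree_map] at hsum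
  -- all coefficients
  let cs : Finset Kb := (A.support.biUnion fun i => (A.coeff i).support.image fun l => (A.coeff i).coeff l) ∪
    (A'.support.biUnion fun i => (A'.coeff i).support.image fun l => (A'.coeff i).coeff l)
  have : ExpChar K p := ExpChar.prime Fact.out
  have : ExpChar (separableClosure K Kb) p := expChar_of_injective_algebraMap (algebraMap K _).injective p
  have : ExpChar Kb p := expChar_of_injective_algebraMap (algebraMap K Kb).injective p
  choose n hn using fun c : Kb => IsPurelyInseparable.pow_mem (separableClosure K Kb) p c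
  set N := cs.sup n with hN
  set Q := p ^ N with hQ
  have hQpos : 0 < Q := pow_pos (Fact.out : p.Prime).pos _
  have hmem : ∀ c ∈ cs, c ^ Q ∈ separableClosure K Kb := fun c hc => by
    obtain ⟨d, hd⟩ := hn c
    have hle : n c ≤ N := Finset.le_sup (f := n) hc
    rw [hQ, ← Nat.sub_add_cancel hle, pow_add, mul_comm, pow_mul, ← hd]
    exact pow_mem d.2 _
  let S : Set Kb := (fun c => c ^ Q) '' (cs : Set Kb)
  let K1 := IntermediateField.adjoin K S
  have hSsep : Algebra.IsSeparable K K1 := (IntermediateField.isSeparable_adjoin_iff_isSeparable K Kb).2 (by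
    rintro _ ⟨c, hc, rfl⟩
    exact mem_separableClosure_iff.1 (hmem c hc))
  have hfin : FiniteDimensional K K1 :=
    have : Finite S := (cs.finite_toSet.image _).to_subtype
    IntermediateField.finiteDimensional_adjoin fun c _ => (Algebra.IsAlgebraic.isAlgebraic c).isIntegral
  -- the field of `K1` over `L`
  obtain ⟨pb⟩ : Nonempty (PowerBasis K K1) := ⟨Field.powerBasisOfFiniteOfSeparable K K1⟩
  set q := minpoly K pb.gen with hqdef
  have hqm : q.Monic := minpoly.monic pb.isIntegral_gen
  have : Fact (Irreducible (q.map (algebraMap K L))) :=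
    ⟨irreducible_map_of_closed hclosed hqm (minpoly.irreducible pb.isIntegral_gen)⟩
  let L1 := AdjoinRoot (q.map (algebraMap K L))
  have hqL : (q.map (algebraMap K L)).Monic := hqm.map _
  let pb' : PowerBasis L L1 := AdjoinRoot.powerBasis' hqL
  have hroot' : aeval (AdjoinRoot.root (q.map (algebraMap K L))) q = 0 := by
    rw [← aeval_map_algebraMap L, AdjoinRoot.aeval_eq, AdjoinRoot.mk_self]
  let φ : K1 →ₐ[K] L1 := pb.lift (AdjoinRoot.root (q.map (algebraMap K L))) hroot'
  have hdim : pb'.dim = pb.dim := by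
    show (q.map (algebraMap K L)).natDegree = pb.dim
    rw [hqm.natDegree_map, hqdef, pb.natDegree_minpoly]
  have hpos : 0 < pb.dim := pb.dim_pos
  let ℓ : K1 →ₗ[K] K := pb.basis.coord ⟨0, hpos⟩
  let ℓ' : L1 →ₗ[L] L := pb'.basis.coord ⟨0, by rw [hdim]; exact hpos⟩
  have hℓφ : ∀ c : K1, ℓ' (φ c) = algebraMap K L (ℓ c) := by
    intro c
    have h := LinearMap.congr_fun (pb.basis.ext (f₁ := (ℓ'.restrictScalars K).comp φ.toLinearMap)
      (f₂ := (Algebra.linearMap K L).comp ℓ) fun i => ?_) c
    · exact h
    simp only [LinearMap.comp_apply, LinearMap.restrictScalars_apply, AlgHom.toLinearMap_apply,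
      Algebra.linearMap_apply]
    rw [pb.basis_eq_pow, map_pow, PowerBasis.lift_gen,
      show AdjoinRoot.root (q.map (algebraMap K L)) = pb'.gen from rfl]
    rw [show pb'.gen ^ (i : ℕ) = pb'.basis ⟨i, by rw [hdim]; exact i.isLt⟩ from (pb'.basis_eq_pow ⟨(i : ℕ), by rw [hdim]; exact i.isLt⟩).symm,
      show pb.gen ^ (i : ℕ) = pb.basis i from (pb.basis_eq_pow _).symm]
    simp only [ℓ, ℓ', Module.Basis.coord_apply, Module.Basis.repr_self, Finsupp.single_apply]
    by_cases h0 : (i : ℕ) = 0
    · rw [if_pos (Fin.ext h0), if_pos (Fin.ext h0), map_one]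
    · rw [if_neg (fun e => h0 (congrArg Fin.val e)), if_neg (fun e => h0 (congrArg Fin.val e)), map_zero]
  -- Frobenius twist of the factors, with coefficients in `K1`
  let fr : Kb →+* Kb := iterateFrobenius Kb p N
  have hfr : ∀ c, fr c = c ^ Q := fun c => rfl
  have hlift : ∀ P : Kb[X][Y], P.Monic → (∀ i l, (P.coeff i).coeff l ∈ cs ∨ (P.coeff i).coeff l = 0) →
      ∃ P1 : K1[X][Y], P1.map (mapRingHom (algebraMap K1 Kb)) = P.map (mapRingHom fr) ∧ P1.Monic ∧
        P1.natDegree = P.natDegree := by
    intro P hP hmemP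
    have h1 : P.map (mapRingHom fr) ∈ lifts (mapRingHom (algebraMap K1 Kb)) := by
      rw [lifts_iff_coeff_lifts]
      intro i
      rw [coeff_map]
      refine (Polynomial.mem_lifts _).1 ((lifts_iff_coeff_lifts _).2 fun l => ?_)
      rw [coe_mapRingHom, coeff_map, hfr]
      rcases hmemP i l with h | h
      · exact ⟨⟨_, IntermediateField.subset_adjoin K S ⟨_, h, rfl⟩⟩, rfl⟩
      · exact ⟨0, by rw [h, zero_pow hQpos.ne', map_zero]⟩
    obtain ⟨P1, h2, -, h3⟩ := lifts_and_natDegree_eq_and_monic h1 (hP.map _)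
    refine ⟨P1, h2, h3, ?_⟩
    have := congrArg natDegree h2
    rwa [h3.natDegree_map, hP.natDegree_map] at this
  have hcs : ∀ (i l : ℕ), ((A.coeff i).coeff l ∈ cs ∨ (A.coeff i).coeff l = 0) ∧
      ((A'.coeff i).coeff l ∈ cs ∨ (A'.coeff i).coeff l = 0) := by
    intro i l
    constructor
    · by_cases h : (A.coeff i).coeff l = 0
      · exact Or.inr h
      · exact Or.inl (Finset.mem_union_left _ (Finset.mem_biUnion.2 ⟨i, mem_support_iff.2 (fun h' => h (by simp [h'])),
          Finset.mem_image.2 ⟨l, mem_support_iff.2 h, rfl⟩⟩))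
    · by_cases h : (A'.coeff i).coeff l = 0
      · exact Or.inr h
      · exact Or.inl (Finset.mem_union_right _ (Finset.mem_biUnion.2 ⟨i, mem_support_iff.2 (fun h' => h (by simp [h'])),
          Finset.mem_image.2 ⟨l, mem_support_iff.2 h, rfl⟩⟩))
  obtain ⟨A1, hA1, hA1m, hA1d⟩ := hlift A hA fun i l => (hcs i l).1
  obtain ⟨A1', hA1', hA1m', hA1d'⟩ := hlift A' hA' fun i l => (hcs i l).2
  -- evaluate at `(x ^ Q, y ^ Q)`
  have : ExpChar L1 p := expChar_of_injective_algebraMap ((algebraMap L L1).comp (algebraMap K L)).injective p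
  let ev : K1[X][Y] →+* L1 := eval₂RingHom (eval₂RingHom φ.toRingHom (algebraMap L L1 (x ^ Q))) (algebraMap L L1 (y ^ Q))
  have hprod : ev A1 * ev A1' = 0 := by
    have hmul : A1 * A1' = (g.map (mapRingHom (algebraMap K K1))).map (mapRingHom (iterateFrobenius K1 p N)) := by
      refine Polynomial.map_injective (mapRingHom (algebraMap K1 Kb))
        (Polynomial.map_injective _ (algebraMap K1 Kb).injective) ?_
      rw [Polynomial.map_mul, hA1, hA1', ← Polynomial.map_mul, hAA]
      simp only [Polynomial.map_map, mapRingHom_comp]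
      congr 2
    rw [← map_mul, hmul]
    have hcomp : (ev.comp (mapRingHom (mapRingHom (iterateFrobenius K1 p N)))).comp
        (mapRingHom (mapRingHom (algebraMap K K1))) =
        (iterateFrobenius L1 p N).comp ((algebraMap L L1).comp (eval₂RingHom (aeval (R := K) x).toRingHom y)) := by
      refine Polynomial.ringHom_ext (fun r => ?_) ?_
      · refine RingHom.congr_fun (f := (((ev.comp (mapRingHom (mapRingHom (iterateFrobenius K1 p N)))).comp
          (mapRingHom (mapRingHom (algebraMap K K1)))).comp C)) (g := ((iterateFrobenius L1 p N).comp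
          ((algebraMap L L1).comp (eval₂RingHom (aeval (R := K) x).toRingHom y))).comp C)
          (Polynomial.ringHom_ext (fun c => ?_) ?_) r
        · simp [ev, iterateFrobenius_def, hQ, eval₂_pow, ← IsScalarTower.algebraMap_apply]
        · simp [ev, iterateFrobenius_def, hQ]
      · simp [ev, iterateFrobenius_def, hQ]
    have := RingHom.congr_fun hcomp g
    simp only [RingHom.comp_apply, coe_mapRingHom, coe_eval₂RingHom] at this
    rw [hroot, map_zero, map_zero] at this
    exact this
  -- a relation of small degree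
  have hrel : ∃ P : K1[X][Y], P.Monic ∧ P.natDegree < m ∧ ev P = 0 := by
    rcases mul_eq_zero.1 hprod with h | h
    · exact ⟨A1, hA1m, by omega, h⟩
    · exact ⟨A1', hA1m', by omega, h⟩
  obtain ⟨P, hPm, hPd, hPev⟩ := hrel
  set i := P.natDegree
  -- push down by `ℓ'`
  let c : ℕ → K[X] := fun a => (P.coeff a).sum fun l e => C (ℓ e) * X ^ (Q * l)
  let G : K[X][Y] := ∑ a ∈ Finset.range (i + 1), C (c a) * Y ^ a
  have hG : G.eval₂ (aeval (R := K) x).toRingHom (y ^ Q) = 0 := by
    have h := congrArg ℓ' hPev
    rw [map_zero] at h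
    refine Eq.trans ?_ h
    simp only [ev, coe_eval₂RingHom]
    rw [eval₂_eq_sum_range (p := P), map_sum]
    simp only [G, eval₂_finsetSum, eval₂_mul, eval₂_X_pow, eval₂_C]
    refine Finset.sum_congr rfl fun a _ => ?_
    rw [mul_comm _ (algebraMap L L1 (y ^ Q) ^ a), ← map_pow (algebraMap L L1) (y ^ Q), ← Algebra.smul_def, map_smul,
      smul_eq_mul, mul_comm]
    congr 1
    show aeval x (c a) = _
    simp only [c, Polynomial.sum_def, map_sum, map_mul, map_pow, aeval_C, aeval_X]
    rw [coe_eval₂RingHom, eval₂_eq_sum, Polynomial.sum_def, map_sum]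
    refine Finset.sum_congr rfl fun l _ => ?_
    rw [mul_comm (φ.toRingHom _) _, ← map_pow (algebraMap L L1) x Q, ← map_pow (algebraMap L L1) (x ^ Q), ← Algebra.smul_def ((x ^ Q) ^ l), map_smul, smul_eq_mul]
    show _ = _ * ℓ' (φ _)
    rw [hℓφ, ← pow_mul, mul_comm]
  have hℓ1 : ℓ 1 = 1 := by
    rw [show (1 : K1) = pb.basis ⟨0, hpos⟩ by rw [pb.basis_eq_pow]; simp]
    exact (Module.Basis.coord_apply _ _ _).trans (by rw [Module.Basis.repr_self, Finsupp.single_eq_same])
  have hc : c i = 1 := by
    simp only [c, i, hPm.coeff_natDegree]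
    rw [show (1 : K1[X]) = C 1 from map_one C |>.symm, sum_C_index, hℓ1]
    · simp
    · simp
  have hG0 : G ≠ 0 := fun h => by
    have := congrArg (fun r => r.coeff i) h
    simp [G, hc] at this
  have hGd : G.natDegree ≤ i := natDegree_sum_le_of_forall_le _ _ fun a ha =>
    (natDegree_C_mul_X_pow_le _ _).trans (Nat.lt_succ_iff.1 (Finset.mem_range.1 ha))
  -- contradiction with the degree of `y ^ Q`
  let gen : K⟮x⟯ := ⟨x, IntermediateField.mem_adjoin_simple_self K x⟩
  let ι : K[X] →+* K⟮x⟯ := (aeval (R := K) gen).toRingHom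
  have hι : (algebraMap K⟮x⟯ L).comp ι = (aeval (R := K) x).toRingHom := by
    refine RingHom.ext fun r => ?_
    exact (aeval_algebraMap_apply L gen r).symm
  have hιinj : Function.Injective ι := fun a b h => by
    have := congrArg (algebraMap K⟮x⟯ L) h
    rw [← RingHom.comp_apply, ← RingHom.comp_apply, hι] at this
    exact (transcendental_iff_injective.1 hx) this
  have hv : aeval (y ^ Q) (G.map ι) = 0 := by rw [aeval_def, eval₂_map, hι, hG]
  have h1 := natDegree_le_natDegree (minpoly.degree_le_of_ne_zero _ (y ^ Q)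
    (Polynomial.map_ne_zero_iff hιinj |>.2 hG0) hv)
  have h2 : (minpoly K⟮x⟯ (y ^ Q)).natDegree = m := by
    have : ExpChar K⟮x⟯ p := expChar_of_injective_algebraMap (algebraMap K _).injective p
    rw [← hdeg, ← IntermediateField.adjoin.finrank (hsep.isIntegral.pow Q), ← IntermediateField.adjoin.finrank hsep.isIntegral]
    exact congrArg (fun M : IntermediateField K⟮x⟯ L => Module.finrank K⟮x⟯ M)
      (IntermediateField.adjoin_simple_eq_adjoin_pow_expChar_pow_of_isSeparable K⟮x⟯ L hsep p N).symm
  have h3 := natDegree_map_le (p := G) (f := ι)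
  omega

end Groth.Agent.LW24
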