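import Groth.Agent.LW24.Places
import Mathlib.FieldTheory.IsAlgClosed.AlgebraicClosure
import Mathlib.RingTheory.Localization.Integral
import Mathlib.Algebra.Polynomial.Eval.Irreducible
import Mathlib.RingTheory.Polynomial.Eisenstein.Basic

/-!
Uniform point count for absolutely irreducible plane curves over finite fields.
-/

set_option autoImplicit false
set_option linter.style.haveILetI false

open FunFld WithZero Polynomial
open scoped Multiplicative IntermediateField Polynomial.Bivariate

namespace Groth.Agent.LW24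

open Groth.Agent.FF30 Groth.Agent.Zeta30

universe u

/-- Irreducible over an algebraic closure. -/
def AbsIrr {F : Type u} [Field F] (g : F[X][Y]) : Prop :=
  Irreducible (g.map (mapRingHom (algebraMap F (AlgebraicClosure F))))

/-- The constant of the uniform count. -/
def cst (e m : ℕ) : ℕ := 2 * (e * m * m + 1) + (e + e * m) * m + m + 1

variable {F : Type u} [Field F]

theorem irreducible_of_absIrr {g : F[X][Y]} (hg : g.Monic) (h : AbsIrr g) :
    Irreducible (g.map (algebraMap F[X] (RatFunc F))) :=
  (hg.irreducible_iff_irreducible_map_fraction_map (K := RatFunc F)).1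
    (Polynomial.Monic.irreducible_of_irreducible_map (mapRingHom (algebraMap F (AlgebraicClosure F))) g hg h)

set_option maxHeartbeats 1000000 in
theorem exists_model {g : F[X][Y]} (hg : g.Monic) (hder : derivative g ≠ 0) (habs : AbsIrr g) :
    ∃ (K : Type u) (_ : Field K) (_ : Algebra F K) (_ : Algebra F[X] K) (_ : IsScalarTower F F[X] K) (y : K),
      Model y g ∧ IsFunctionField F K ∧
      Module.finrank F⟮algebraMap F[X] K Polynomial.X⟯ K = g.natDegree ∧
      LinearIndependent F⟮algebraMap F[X] K Polynomial.X⟯ (fun i : Fin g.natDegree => y ^ (i : ℕ)) ∧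
      0 < g.natDegree := by
  classical
  set hQ := g.map (algebraMap F[X] (RatFunc F)) with hhQ
  have : Fact (Irreducible hQ) := ⟨irreducible_of_absIrr hg habs⟩
  let K := AdjoinRoot hQ
  have hmonQ : hQ.Monic := hg.map _
  let pb := AdjoinRoot.powerBasis hmonQ.ne_zero
  have : FiniteDimensional (RatFunc F) K := pb.finite
  have hdegQ : hQ.natDegree = g.natDegree := hg.natDegree_map _
  have hdeg0 : 0 < hQ.natDegree := Irreducible.natDegree_pos Fact.out
  set y : K := AdjoinRoot.root hQ
  have : IsScalarTower F F[X] K := IsScalarTower.of_algebraMap_eq fun r => by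
    rw [IsScalarTower.algebraMap_apply F[X] (RatFunc F) K, IsScalarTower.algebraMap_apply F (RatFunc F) K,
      IsScalarTower.algebraMap_apply F F[X] (RatFunc F)]
  set x : K := algebraMap F[X] K Polynomial.X with hxdef
  have hxX : x = algebraMap (RatFunc F) K RatFunc.X := by
    rw [hxdef, IsScalarTower.algebraMap_apply F[X] (RatFunc F) K, RatFunc.algebraMap_X]
  have hxt : Transcendental F x := by
    rw [transcendental_iff]
    intro p hp
    rw [hxX, Polynomial.aeval_algebraMap_apply, RatFunc.aeval_X_left_eq_algebraMap,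
      map_eq_zero_iff _ (RingHom.injective _), map_eq_zero_iff _ (RatFunc.algebraMap_injective F)] at hp
    exact hp
  have hfr : Module.finrank F⟮x⟯ K = g.natDegree := by
    rw [hxX, finrank_adjoin_algebraMap, (show F⟮(RatFunc.X : RatFunc F)⟯ = ⊤ from ratFunc_adjoin_X F),
      IntermediateField.finrank_top, one_mul, pb.finrank, AdjoinRoot.powerBasis_dim, hdegQ]
  have hFF : FF F K := ⟨x, hxt, Module.finite_of_finrank_pos (by omega)⟩
  have hroot : aeval y g = 0 := by
    rw [← aeval_map_algebraMap (RatFunc F), ← hhQ, AdjoinRoot.aeval_eq, AdjoinRoot.mk_self]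
  have hyint : IsIntegral F[X] y := ⟨g, hg, hroot⟩
  have hminQ : minpoly (RatFunc F) (AdjoinRoot.root hQ) = hQ := by
    rw [AdjoinRoot.minpoly_root hmonQ.ne_zero, hmonQ.leadingCoeff, inv_one, map_one, mul_one]
  have hmin : minpoly F[X] y = g := by
    refine (Polynomial.map_injective _ (RatFunc.algebraMap_injective F) ?_)
    rw [← minpoly.isIntegrallyClosed_eq_field_fractions' (RatFunc F) hyint]
    exact hminQ
  have hsepy : IsSeparable (RatFunc F) (AdjoinRoot.root hQ) := by
    unfold IsSeparable
    rw [hminQ]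
    refine (Polynomial.separable_iff_derivative_ne_zero Fact.out).2 fun hd => hder ?_
    rwa [hhQ, derivative_map, Polynomial.map_eq_zero_iff (RatFunc.algebraMap_injective F)] at hd
  have hadjoin : Algebra.adjoin (RatFunc F) {y} = ⊤ := AdjoinRoot.adjoinRoot_eq_top
  have : Algebra.IsSeparable (RatFunc F) K := by
    have h1 : IntermediateField.adjoin (RatFunc F) ({y} : Set K) = ⊤ :=
      IntermediateField.toSubalgebra_injective (by
        rw [IntermediateField.adjoin_simple_toSubalgebra_of_isAlgebraic (Algebra.IsAlgebraic.isAlgebraic y),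
          hadjoin, IntermediateField.top_toSubalgebra])
    have h2 : Algebra.IsSeparable (RatFunc F) (IntermediateField.adjoin (RatFunc F) ({y} : Set K)) :=
      (IntermediateField.isSeparable_adjoin_simple_iff_isSeparable _ _).2 hsepy
    rw [h1] at h2
    exact Algebra.IsSeparable.of_algHom _ _ IntermediateField.topEquiv.symm.toAlgHom
  have : FaithfulSMul F[X] K := (faithfulSMul_iff_algebraMap_injective _ _).2 (by
    rw [IsScalarTower.algebraMap_eq F[X] (RatFunc F) K]
    exact (algebraMap (RatFunc F) K).injective.comp (RatFunc.algebraMap_injective F))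
  have M : Model y g :=
    { ff := hFF
      int := hyint
      root := hroot
      dvd := fun G hG => hmin ▸ minpoly.isIntegrallyClosed_dvd hyint hG
      deriv := fun a ha => hmin ▸ exists_derivative_mul_eq (A := F[X]) (L := RatFunc F) hyint hadjoin ha
      prim := fun z => by
        have hz : IsAlgebraic F[X] z :=
          (IsFractionRing.isAlgebraic_iff F[X] (RatFunc F) K).2 (Algebra.IsAlgebraic.isAlgebraic z)
        obtain ⟨p, hp0, hpz⟩ := hz
        refine ⟨p.primPart, p.isPrimitive_primPart, aeval_primPart_eq_zero hp0 hpz⟩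
      trans := hxt }
  -- constants
  have hK : IsFunctionField F K := by
    refine ⟨hFF, fun a ha => ?_⟩
    let Ω := AlgebraicClosure F
    let φ : F[X] →+* (Polynomial Ω) := mapRingHom (algebraMap F Ω)
    let j : RatFunc F →+* RatFunc Ω := IsFractionRing.lift (A := F[X]) (g := (algebraMap (Polynomial Ω) (RatFunc Ω)).comp φ)
      ((RatFunc.algebraMap_injective Ω).comp (Polynomial.map_injective _ (algebraMap F Ω).injective))
    have hj : ∀ p : F[X], j (algebraMap F[X] (RatFunc F) p) = algebraMap (Polynomial Ω) (RatFunc Ω) (φ p) :=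
      fun p => IsFractionRing.lift_algebraMap _ p
    let hR := hQ.map j
    have hgΩ : hR = (g.map φ).map (algebraMap (Polynomial Ω) (RatFunc Ω)) := by
      simp only [hR, hhQ, Polynomial.map_map]
      congr 1
      exact RingHom.ext hj
    have : Fact (Irreducible hR) := ⟨hgΩ ▸ ((hg.map φ).irreducible_iff_irreducible_map_fraction_map
      (K := RatFunc Ω)).1 habs⟩
    let R := AdjoinRoot hR
    let Φ : K →+* R := AdjoinRoot.map j hQ hR dvd_rfl
    have hΦa : ∃ c : Ω, Φ a = AdjoinRoot.of hR (algebraMap Ω (RatFunc Ω) c) := by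
      obtain ⟨p, hp0, hpa⟩ := ha
      let θ : Ω →+* R := (AdjoinRoot.of hR).comp (algebraMap Ω (RatFunc Ω))
      have hcomp : Φ.comp (algebraMap F K) = θ.comp (algebraMap F Ω) := by
        refine RingHom.ext fun c => ?_
        show Φ (AdjoinRoot.of hQ (algebraMap F (RatFunc F) c)) = _
        rw [AdjoinRoot.map_of, IsScalarTower.algebraMap_apply F F[X] (RatFunc F), hj]
        show AdjoinRoot.of hR _ = AdjoinRoot.of hR _
        rw [IsScalarTower.algebraMap_apply Ω (Polynomial Ω) (RatFunc Ω)]
        simp [φ]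
      have h1 : p.eval₂ (θ.comp (algebraMap F Ω)) (Φ a) = 0 := by
        rw [← hcomp, ← Polynomial.hom_eval₂, ← aeval_def, hpa, map_zero]
      rw [← Polynomial.eval₂_map] at h1
      have hne : p.map (algebraMap F Ω) ≠ 0 := Polynomial.map_ne_zero hp0
      rw [(IsAlgClosed.splits (p.map (algebraMap F Ω))).eq_prod_roots, eval₂_mul, eval₂_C,
        eval₂_multiset_prod, mul_eq_zero, map_eq_zero, leadingCoeff_eq_zero, or_iff_right hne,
        Multiset.prod_eq_zero_iff, Multiset.mem_map] at h1
      obtain ⟨q, hq, hq0⟩ := h1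
      obtain ⟨c, -, rfl⟩ := Multiset.mem_map.1 hq
      rw [eval₂_sub, eval₂_X, eval₂_C, sub_eq_zero] at hq0
      exact ⟨c, hq0⟩
    obtain ⟨c, hc⟩ := hΦa
    obtain ⟨r, hr⟩ := AdjoinRoot.mk_surjective a
    set r' := r %ₘ hQ with hr'def
    have hr' : AdjoinRoot.mk hQ r' = a := by
      rw [← hr, AdjoinRoot.mk_eq_mk]
      exact ⟨-(r /ₘ hQ), by linear_combination (modByMonic_add_div r hQ)⟩
    have hdr : r'.degree < hQ.degree := degree_modByMonic_lt r hmonQ
    have hΦr : Φ a = AdjoinRoot.mk hR (r'.map j) := by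
      rw [← hr']
      show AdjoinRoot.map j hQ hR dvd_rfl _ = _
      rw [AdjoinRoot.map, AdjoinRoot.lift_mk, ← AdjoinRoot.aeval_eq, aeval_def, eval₂_map]
      rfl
    rw [hc, ← AdjoinRoot.mk_C, AdjoinRoot.mk_eq_mk] at hΦr
    have hlt : (C (algebraMap Ω (RatFunc Ω) c) - r'.map j).degree < hR.degree := by
      refine (degree_sub_le _ _).trans_lt (max_lt (degree_C_le.trans_lt ?_) ?_)
      · rw [← natDegree_pos_iff_degree_pos]
        simp only [hR, hmonQ.natDegree_map]
        exact hdeg0
      · simp only [hR, degree_map]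
        exact hdr
    have hz := Polynomial.eq_zero_of_dvd_of_degree_lt hΦr hlt
    rw [sub_eq_zero] at hz
    have hr0 : r' = C (r'.coeff 0) := by
      refine eq_C_of_natDegree_eq_zero ?_
      rw [← natDegree_map_eq_of_injective j.injective r', ← hz, natDegree_C]
    have hj0 : j (r'.coeff 0) = algebraMap Ω (RatFunc Ω) c := by
      have := congrArg (fun q => q.coeff 0) hz
      simpa [coeff_map] using this.symm
    -- `r'.coeff 0` is algebraic over `F` in `F(X)`
    have halg : IsAlgebraic F (r'.coeff 0) := by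
      obtain ⟨p, hp0, hpc⟩ := (Algebra.IsAlgebraic.isAlgebraic (R := F) c)
      refine ⟨p, hp0, (map_eq_zero j).1 ?_⟩
      have hcompj : j.comp (algebraMap F (RatFunc F)) = (algebraMap Ω (RatFunc Ω)).comp (algebraMap F Ω) := by
        refine RingHom.ext fun d => ?_
        simp only [RingHom.comp_apply, IsScalarTower.algebraMap_apply F F[X] (RatFunc F), hj,
          IsScalarTower.algebraMap_apply Ω (Polynomial Ω) (RatFunc Ω)]
        simp [φ]
      rw [aeval_def, Polynomial.hom_eval₂, hcompj, hj0, ← Polynomial.hom_eval₂, ← aeval_def, hpc, map_zero]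
    obtain ⟨d, hd⟩ := (IsIntegrallyClosed.isIntegral_iff (R := F[X])).1
      (halg.isIntegral.tower_top (A := F[X]))
    have hdF : IsAlgebraic F d := by
      refine (isAlgebraic_algebraMap_iff (RatFunc.algebraMap_injective F)).1 ?_
      rw [hd]; exact halg
    obtain ⟨e, he⟩ : ∃ e, d = C e := by
      refine ⟨d.coeff 0, eq_C_of_natDegree_eq_zero ?_⟩
      by_contra hne
      exact (Polynomial.transcendental d hne
        (mem_nonZeroDivisors_of_ne_zero (leadingCoeff_ne_zero.2 fun h => hne (by simp [h])))) hdF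
    refine ⟨e, ?_⟩
    rw [← hr', hr0, AdjoinRoot.mk_C, ← hd, he]
    exact (IsScalarTower.algebraMap_apply F F[X] K e).trans
      (IsScalarTower.algebraMap_apply F[X] (RatFunc F) K _)
  have hli : LinearIndependent F⟮x⟯ (fun i : Fin g.natDegree => y ^ (i : ℕ)) := by
    have hb : LinearIndependent (RatFunc F) (fun i : Fin hQ.natDegree => y ^ (i : ℕ)) := by
      have := pb.basis.linearIndependent
      rw [pb.coe_basis] at this
      exact this
    rw [hdegQ] at hb
    have hsub : ∀ z : F⟮x⟯, ∃ w : RatFunc F, algebraMap (RatFunc F) K w = z := by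
      rintro ⟨z, hz⟩
      have hmap : (F⟮(RatFunc.X : RatFunc F)⟯).map (IsScalarTower.toAlgHom F (RatFunc F) K) = F⟮x⟯ := by
        rw [IntermediateField.adjoin_map]; simp [hxX]
      rw [← hmap] at hz
      obtain ⟨w, -, rfl⟩ := hz
      exact ⟨w, rfl⟩
    choose w hw using hsub
    rw [Fintype.linearIndependent_iff] at hb ⊢
    intro c hc i
    have := hb (fun j => w (c j)) (by
      rw [← hc]
      exact Finset.sum_congr rfl fun j _ => by rw [Algebra.smul_def, hw, IntermediateField.smul_def, smul_eq_mul]) i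
    have h3 := hw (c i)
    rw [this, map_zero] at h3
    exact Subtype.ext h3.symm
  exact ⟨K, inferInstance, inferInstance, inferInstance, inferInstance, y, M, hK, hfr, hli, hdegQ ▸ hdeg0⟩

set_option maxHeartbeats 1000000 in
/-- Uniform point count. -/
theorem curve_count [Finite F] {g : F[X][Y]} (hg : g.Monic) {e : ℕ} (he : ∀ i, (g.coeff i).natDegree ≤ e)
    (hder : derivative g ≠ 0) (habs : AbsIrr g) :
    |(Nat.card {p : F × F // evp p.1 p.2 g = 0} : ℝ) - Nat.card F| ≤
      (cst e g.natDegree : ℕ) * Real.sqrt (Nat.card F) := by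
  classical
  obtain ⟨K, _, _, _, _, y, M, hK, hfr, hli, hm0⟩ := exists_model hg hder habs
  set m := g.natDegree
  set x : K := algebraMap F[X] K Polynomial.X with hxdef
  have hF := M.ff
  have hae : (aeval (R := F) x).toRingHom = algebraMap F[X] K :=
    RingHom.ext fun p => (algebraMap_eq_aeval p).symm
  have hgen : genus F K ≤ e * m * m + 1 :=
    genus_le_plane hK M.trans hg he (by rw [hae]; exact M.root) hli hfr
  -- the element `g'(y)`
  set z : K := aeval y (derivative g) with hzdef
  have hz0 : z ≠ 0 := fun h0 => by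
    have h := degree_le_of_dvd (M.dvd _ h0) hder
    exact not_lt.2 h (degree_derivative_lt hg.ne_zero)
  set N := (e + e * m) * m with hN
  have hcnt : ∀ S : Finset (Place F K), (∀ P ∈ S, P.1 z < 1) → S.card ≤ N := by
    intro S hS
    rcases S.eq_empty_or_nonempty with rfl | ⟨P₀, hP₀⟩
    · simp
    have hzt : Transcendental F z := fun halg =>
      (hS P₀ hP₀).ne (val_eq_one_of_isAlgebraic P₀ halg hz0)
    have h1 := hF.sum_deg_mul_ord_le hzt S fun P hP => (val_lt_one_iff P hz0).1 (hS P hP)
    have h2 : (Module.finrank F⟮z⟯ K : ℤ) ≤ N := by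
      rw [← hF.deg_poleDiv hzt]
      have hle : (poleDiv z : Divisor F K) ≤ (e + e * m) • (poleDiv x : Divisor F K) := fun P => by
        have hb : P.1 z ≤ max 1 (P.1 x) ^ (e + e * m) := by
          have hy := val_root_le P x y hg he (by rw [hae]; exact M.root)
          rw [hzdef, aeval_eq_sum_range]
          refine P.1.map_sum_le fun i hi => ?_
          rw [Algebra.smul_def, map_mul, map_pow, pow_add]
          refine mul_le_mul' ?_ ?_
          · rw [coeff_derivative, map_mul, map_mul]
            refine (mul_le_of_le_one_right' ?_).trans ?_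
            · rw [show ((i : F[X]) + 1) = C ((i : F) + 1) by simp,
                show algebraMap F[X] K (C _) = algebraMap F K _ from (IsScalarTower.algebraMap_apply F F[X] K _).symm]
              exact P.2.1 _
            · rw [algebraMap_eq_aeval, Polynomial.aeval_eq_sum_range]
              refine P.1.map_sum_le fun j hj => ?_
              rw [Algebra.smul_def, map_mul, map_pow]
              refine (mul_le_mul' (P.2.1 _) (pow_le_pow_left₀ zero_le (le_max_right 1 (P.1 x)) _)).trans ?_
              rw [one_mul]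
              exact pow_le_pow_right₀ (le_max_left _ _)
                (Nat.lt_succ_iff.1 (Finset.mem_range.1 hj) |>.trans (he _))
          · refine (pow_le_pow_left₀ zero_le hy i).trans ?_
            rw [← pow_mul]
            refine pow_le_pow_right₀ (le_max_left _ _) (Nat.mul_le_mul_left e ?_)
            have := natDegree_derivative_le g
            have := Finset.mem_range.1 hi
            omega
        rw [Finsupp.smul_apply, hF.poleDiv_apply, hF.poleDiv_apply, nsmul_eq_mul]
        refine max_le ?_ (mul_nonneg (by positivity) (le_max_right _ _))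
        have hmax : max 1 (P.1 x) ≤ exp (max (-P.ord x) 0) := by
          refine max_le (by rw [← exp_zero, exp_le_exp]; exact le_max_right _ _) ?_
          rcases eq_or_ne x 0 with h | h
          · rw [h, map_zero]; exact zero_le
          · rw [val_eq P h, exp_le_exp]; exact le_max_left _ _
        have h3 := hb.trans (pow_le_pow_left₀ zero_le hmax _)
        rw [← exp_nsmul, val_eq P hz0, exp_le_exp, nsmul_eq_mul] at h3
        exact h3
      refine (deg_mono hle).trans (le_of_eq ?_)
      rw [deg_nsmul, hF.deg_poleDiv M.trans, hfr, hN]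
      push_cast; ring
    have h3 : (S.card : ℤ) ≤ ∑ P ∈ S, P.ord z * (P.deg : ℤ) := by
      rw [Finset.card_eq_sum_ones, Nat.cast_sum]
      refine Finset.sum_le_sum fun P hP => ?_
      have a1 := (val_lt_one_iff P hz0).1 (hS P hP)
      have a2 := hF.deg_pos P
      push_cast
      exact one_le_mul_of_one_le_of_one_le (by omega) (by omega)
    exact_mod_cast h3.trans (h1.trans h2)
  -- points
  let Z : Finset (F × F) := (Set.toFinite {p : F × F | evp p.1 p.2 g = 0}).toFinset
  have hZ : Nat.card {p : F × F // evp p.1 p.2 g = 0} = Z.card :=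
    Nat.card_eq_card_finite_toFinset (Set.toFinite {p : F × F | evp p.1 p.2 g = 0})
  let good : F × F → Prop := fun p => evp p.1 p.2 (derivative g) ≠ 0
  choose P hPx hPa hPb using fun p : {p : F × F // evp p.1 p.2 g = 0} => M.exists_place_over p.2
  have hPinj : Function.Injective P := fun p q h => Subtype.ext (Prod.ext
    (res_unique (P p) (hPa p) (h ▸ hPa q)) (res_unique (P p) (hPb p) (h ▸ hPb q)))
  let Zg := Z.filter good
  let Zb := Z.filter fun p => ¬ good p
  have hZcard : Zg.card + Zb.card = Z.card := Finset.card_filter_add_card_filter_not _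
  have hmemZ : ∀ p, p ∈ Z ↔ evp p.1 p.2 g = 0 := fun p => (Set.Finite.mem_toFinset _)
  have hS : {Q : Place F K | Q.deg = 1}.Finite := (hF.finite_deg_le 1).subset fun Q hQ => le_of_eq hQ
  let T := hS.toFinset
  have hT : Nat.card {Q : Place F K // Q.deg = 1} = T.card := Nat.card_eq_card_finite_toFinset hS
  let lift : F × F → Place F K := fun p => if h : evp p.1 p.2 g = 0 then P ⟨p, h⟩ else
    Classical.choose (hF.exists_place_pos M.trans)
  have hliftinj : Set.InjOn lift (Z : Set (F × F)) := fun p hp q hq h => by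
    simp only [lift, dif_pos ((hmemZ p).1 hp), dif_pos ((hmemZ q).1 hq)] at h
    exact congrArg Subtype.val (hPinj h)
  have hbad : Zb.card ≤ N := by
    refine le_trans (le_of_eq (Finset.card_image_of_injOn
      (hliftinj.mono (Finset.coe_subset.2 (Finset.filter_subset _ _)))).symm) (hcnt _ fun Q hQ => ?_)
    obtain ⟨p, hp, rfl⟩ := Finset.mem_image.1 hQ
    rw [Finset.mem_filter] at hp
    simp only [lift, dif_pos ((hmemZ p).1 hp.1)]
    have h := res_aeval (P ⟨p, (hmemZ p).1 hp.1⟩) (hPx _) M.int (hPa _) (hPb _) (derivative g)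
    rwa [show evp p.1 p.2 (derivative g) = 0 from not_not.1 hp.2, map_zero, sub_zero] at h
  have hgood1 : Zg.card ≤ T.card := by
    refine Finset.card_le_card_of_injOn lift (fun p hp => ?_)
      (hliftinj.mono (Finset.coe_subset.2 (Finset.filter_subset _ _)))
    rw [Finset.mem_coe, Finset.mem_filter] at hp
    rw [Finset.mem_coe, Set.Finite.mem_toFinset]
    simp only [lift, dif_pos ((hmemZ p).1 hp.1)]
    exact M.deg_one_of_point _ (hPx _) (hPa _) (hPb _) hp.2
  let Tinf := T.filter fun Q => ¬ Q.1 x ≤ 1
  let Tsmall := T.filter fun Q => Q.1 z < 1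
  let Tgood := T.filter fun Q => Q.1 x ≤ 1 ∧ ¬ Q.1 z < 1
  have hcover : T.card ≤ Tinf.card + Tsmall.card + Tgood.card := by
    refine (Finset.card_le_card (t := Tinf ∪ Tsmall ∪ Tgood) fun Q hQ => ?_).trans
      ((Finset.card_union_le _ _).trans (Nat.add_le_add_right (Finset.card_union_le _ _) _))
    simp only [Finset.mem_union, Tinf, Tsmall, Tgood, Finset.mem_filter]
    tauto
  have hinf : Tinf.card ≤ m := by
    have hx' : Transcendental F x⁻¹ := fun ha => M.trans (by simpa using ha.inv)
    have hadj : F⟮x⁻¹⟯ = F⟮x⟯ := le_antisymm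
      (IntermediateField.adjoin_simple_le_iff.mpr (inv_mem (IntermediateField.mem_adjoin_simple_self F x)))
      (IntermediateField.adjoin_simple_le_iff.mpr (by
        simpa using inv_mem (IntermediateField.mem_adjoin_simple_self F x⁻¹)))
    have h1 := hF.sum_deg_mul_ord_le hx' Tinf fun Q hQ => by
      have := (Finset.mem_filter.1 hQ).2
      rw [val_le_one_iff] at this
      rw [ord_inv]; omega
    rw [hadj, hfr] at h1
    refine Nat.cast_le (α := ℤ).1 (le_trans ?_ h1)
    rw [Finset.card_eq_sum_ones, Nat.cast_sum]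
    refine Finset.sum_le_sum fun Q hQ => ?_
    have a1 := (Finset.mem_filter.1 hQ).2
    rw [val_le_one_iff] at a1
    have a2 := hF.deg_pos Q
    rw [ord_inv]
    push_cast
    exact one_le_mul_of_one_le_of_one_le (by omega) (by omega)
  have hsmall : Tsmall.card ≤ N := hcnt _ fun Q hQ => (Finset.mem_filter.1 hQ).2
  have hgood2 : Tgood.card ≤ Zg.card := by
    have hres : ∀ Q ∈ Tgood, ∃ p ∈ Zg, Q.1 (x - algebraMap F K p.1) < 1 ∧ Q.1 (y - algebraMap F K p.2) < 1 := by
      intro Q hQ
      obtain ⟨hQ1, hQx, hQz⟩ := Finset.mem_filter.1 hQ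
      rw [Set.Finite.mem_toFinset] at hQ1
      obtain ⟨a, ha⟩ := exists_res Q hQ1 hQx
      obtain ⟨b, hb⟩ := exists_res Q hQ1 (val_le_one_of_integral Q hQx M.int)
      refine ⟨(a, b), ?_, ha, hb⟩
      have h1 := res_aeval Q hQx M.int ha hb g
      rw [M.root] at h1
      have h2 : evp a b g = 0 := by
        by_contra hne
        have := val_eq_one_of_isAlgebraic Q (isAlgebraic_algebraMap (R := F) (A := K) (evp a b g))
          ((map_ne_zero (algebraMap F K)).2 hne)
        rw [zero_sub, Valuation.map_neg, this] at h1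
        exact lt_irrefl _ h1
      refine Finset.mem_filter.2 ⟨(hmemZ _).2 h2, fun h0 => hQz ?_⟩
      have h3 := res_aeval Q hQx M.int ha hb (derivative g)
      rwa [h0, map_zero, sub_zero] at h3
    choose! π hπ hπa hπb using hres
    refine Finset.card_le_card_of_injOn π hπ fun Q hQ Q' hQ' h => ?_
    exact M.place_unique Q Q' (Finset.mem_filter.1 hQ).2.1 (Finset.mem_filter.1 hQ').2.1
      (hπa Q hQ) (hπb Q hQ) (h ▸ hπa Q' hQ') (h ▸ hπb Q' hQ') (Finset.mem_filter.1 (hπ Q hQ)).2
  have hW := abs_le.1 (hasse_weil hK)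
  rw [hT] at hW
  rw [hZ]
  have hq : (1 : ℝ) ≤ Real.sqrt (Nat.card F) := Real.one_le_sqrt.2 (by exact_mod_cast Nat.one_le_iff_ne_zero.2 Nat.card_pos.ne')
  have e1 : (Z.card : ℝ) ≤ T.card + N := by exact_mod_cast (show Z.card ≤ T.card + N by omega)
  have e2 : (T.card : ℝ) ≤ Z.card + (N + m : ℕ) := by
    exact_mod_cast (show T.card ≤ Z.card + (N + m) by omega)
  have e3 : (genus F K : ℝ) * Real.sqrt (Nat.card F) ≤ ((e * m * m + 1 : ℕ) : ℝ) * Real.sqrt (Nat.card F) :=
    mul_le_mul_of_nonneg_right (Nat.cast_le.2 hgen) (Real.sqrt_nonneg _)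
  have e4 : (((N + m + 1 : ℕ) : ℝ)) ≤ ((N + m + 1 : ℕ) : ℝ) * Real.sqrt (Nat.card F) :=
    le_mul_of_one_le_right (Nat.cast_nonneg _) hq
  have e5 : ((cst e m : ℕ) : ℝ) = 2 * ((e * m * m + 1 : ℕ) : ℝ) + ((N + m + 1 : ℕ) : ℝ) := by
    simp only [cst, hN]; push_cast; ring
  rw [e5, add_mul, abs_le]
  push_cast at e2 e3 e4 ⊢
  constructor <;> nlinarith [hW.1, hW.2]

end Groth.Agent.LW24
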