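import Mathlib.RingTheory.Valuation.LocalSubring
import Mathlib.RingTheory.IntegralClosure.IsIntegralClosure.Basic
import Mathlib.RingTheory.Polynomial.Content

/-!
Elements of a valuation ring of an algebraic extension are quotients of integral elements with unit denominator.
-/

set_option autoImplicit false

open Polynomial

namespace Groth.Agent.LW24

variable {R K Γ : Type*} [CommRing R] [Field K] [Algebra R K] [LinearOrderedCommGroupWithZero Γ]

/-- The tail `∑_{j ≥ i} a_j z^{j-i}`. -/
noncomputable def tail (p : R[X]) (z : K) (i : ℕ) : K :=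
  ∑ j ∈ Finset.Ico i (p.natDegree + 1), algebraMap R K (p.coeff j) * z ^ (j - i)

theorem tail_eq (p : R[X]) (z : K) {i : ℕ} (hi : i ≤ p.natDegree) :
    tail p z i = algebraMap R K (p.coeff i) + tail p z (i + 1) * z := by
  rw [tail, Finset.sum_eq_sum_Ico_succ_bot (Nat.lt_succ_of_le hi), Nat.sub_self, pow_zero, mul_one, tail,
    Finset.sum_mul]
  congr 1
  refine Finset.sum_congr rfl fun j hj => ?_
  rw [Finset.mem_Ico] at hj
  rw [mul_assoc, ← pow_succ]
  congr 2
  omega

theorem tail_zero (p : R[X]) {z : K} (h0 : aeval z p = 0) : tail p z 0 = 0 := by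
  rw [tail, ← h0, aeval_eq_sum_range, Finset.range_eq_Ico]
  exact Finset.sum_congr rfl fun j _ => by rw [Nat.sub_zero, Algebra.smul_def]

theorem isIntegral_tail (p : R[X]) {z : K} (h0 : aeval z p = 0) (i : ℕ) :
    IsIntegral R (tail p z i) := by
  suffices h : tail p z i ∈
      ⨅ V : {V : ValuationSubring K // ((algebraMap R K).range : Set K) ⊆ V.toSubring}, V.1.toSubring by
    rw [iInf_valuationSubring_superset, Subalgebra.mem_toSubring] at h
    obtain ⟨q, hq, hqz⟩ := (show IsIntegral (Subring.closure ((algebraMap R K).range : Set K)) (tail p z i) from h)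
    have hl : q.map (Subring.closure ((algebraMap R K).range : Set K)).subtype ∈ lifts (algebraMap R K) := by
      rw [lifts_iff_coeff_lifts]
      intro n
      have := (q.coeff n).2
      simp only [Subring.closure_eq] at this
      rw [coeff_map]
      exact this
    obtain ⟨r, hr, -, hm⟩ := lifts_and_degree_eq_and_monic hl (hq.map _)
    refine ⟨r, hm, ?_⟩
    rw [← eval_map, hr, eval_map]
    exact hqz
  rw [Subring.mem_iInf]
  rintro ⟨V, hV⟩
  have hc : ∀ j, algebraMap R K (p.coeff j) ∈ V := fun j => hV ⟨_, rfl⟩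
  rcases V.mem_or_inv_mem z with hz | hz
  · exact sum_mem fun j _ => mul_mem (hc j) (pow_mem hz _)
  · rcases eq_or_ne z 0 with rfl | hz0
    · exact sum_mem fun j _ => mul_mem (hc j) (pow_mem V.zero_mem _)
    rcases le_or_gt i (p.natDegree + 1) with hi | hi
    · have hsplit := Finset.sum_range_add_sum_Ico (fun j => algebraMap R K (p.coeff j) * z ^ j) hi
      have h1 : tail p z i = -(∑ j ∈ Finset.range i, algebraMap R K (p.coeff j) * z⁻¹ ^ (i - j)) := by
        refine mul_right_cancel₀ (pow_ne_zero i hz0) ?_
        rw [neg_mul, Finset.sum_mul, tail, Finset.sum_mul, eq_neg_iff_add_eq_zero, add_comm]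
        refine Eq.trans ?_ (h0 ▸ aeval_eq_sum_range (p := p) z).symm
        simp only [Algebra.smul_def]
        rw [← hsplit]
        refine congrArg₂ (· + ·) (Finset.sum_congr rfl fun j hj => ?_) (Finset.sum_congr rfl fun j hj => ?_)
        · rw [Finset.mem_range] at hj
          rw [mul_assoc, inv_pow, show z ^ i = z ^ (i - j) * z ^ j by rw [← pow_add]; congr 1; omega,
            inv_mul_cancel_left₀ (pow_ne_zero _ hz0)]
        · rw [Finset.mem_Ico] at hj
          rw [mul_assoc, ← pow_add]
          congr 2
          omega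
      show tail p z i ∈ V.toSubring
      rw [h1]
      exact neg_mem (sum_mem fun j _ => mul_mem (hc j) (pow_mem hz _))
    · show tail p z i ∈ V.toSubring
      rw [tail, Finset.Ico_eq_empty (by omega), Finset.sum_empty]
      exact zero_mem _

/-- An element of the valuation ring is `w / b` with `b`, `w` integral and `b` a unit. -/
theorem exists_unit_denominator (v : Valuation K Γ) (p : R[X]) {z : K} (h0 : aeval z p = 0)
    (hle : ∀ b : K, IsIntegral R b → v b ≤ 1) (hunit : ∃ i, v (algebraMap R K (p.coeff i)) = 1)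
    (hz : v z ≤ 1) : ∃ b : K, IsIntegral R b ∧ IsIntegral R (b * z) ∧ v b = 1 := by
  obtain ⟨i, hi⟩ := hunit
  have hin : i ≤ p.natDegree := by
    by_contra h
    rw [coeff_eq_zero_of_natDegree_lt (by omega), map_zero, map_zero] at hi
    exact zero_ne_one hi
  have hcase : ∃ l, 1 ≤ l ∧ l ≤ p.natDegree + 1 ∧ v (tail p z l) = 1 := by
    have hle' := fun l => hle _ (isIntegral_tail p h0 l)
    have h1 : algebraMap R K (p.coeff i) = tail p z i - tail p z (i + 1) * z := by
      rw [tail_eq p z hin]; ring
    have h2 := v.map_sub (tail p z i) (tail p z (i + 1) * z)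
    rw [← h1, hi, map_mul] at h2
    rcases le_max_iff.1 h2 with h | h
    · refine ⟨i, Nat.one_le_iff_ne_zero.2 fun hi0 => ?_, by omega, le_antisymm (hle' i) h⟩
      rw [hi0, tail_zero p h0, map_zero] at h
      exact not_le.2 zero_lt_one h
    · exact ⟨i + 1, by omega, by omega, le_antisymm (hle' _) (h.trans (mul_le_of_le_one_right' hz))⟩
  obtain ⟨l, hl1, hl2, hl⟩ := hcase
  refine ⟨_, isIntegral_tail p h0 l, ?_, hl⟩
  have h3 := tail_eq p z (i := l - 1) (by omega)
  rw [Nat.sub_add_cancel hl1] at h3
  rw [show tail p z l * z = tail p z (l - 1) - algebraMap R K (p.coeff (l - 1)) by rw [h3]; ring]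
  exact (isIntegral_tail p h0 _).sub isIntegral_algebraMap

end Groth.Agent.LW24
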