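import Groth.Agent.LW24.GoodFibres
import Groth.Agent.LW24.Birational

/-!
Points of a family of plane curves.
-/

set_option autoImplicit false
set_option linter.style.haveILetI false

open Polynomial
open scoped Polynomial.Bivariate

namespace Groth.Agent.LW24

universe u

variable {k : Type u} [Field k] {L : Type u} [Field L] [Algebra k L]

theorem card_algHom_model {B T : Type u} [CommRing B] [Algebra k B] [CommRing T] [Algebra k T] (i : B →ₐ[k] T)
    (x y : T) (g : B[X][Y])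
    (hsurj : ∀ z : T, ∃ G : B[X][Y], G.eval₂ (eval₂RingHom i.toRingHom x) y = z)
    (hroot : g.eval₂ (eval₂RingHom i.toRingHom x) y = 0)
    (hker : ∀ G : B[X][Y], G.eval₂ (eval₂RingHom i.toRingHom x) y = 0 → g ∣ G)
    (k' : Type u) [Field k'] [Algebra k k'] :
    Nat.card (T →ₐ[k] k') = Nat.card (Σ φ : B →ₐ[k] k',
      {p : k' × k' // Zeta30.evp p.1 p.2 (g.map (mapRingHom φ.toRingHom)) = 0}) := by
  let Θ : B[X][Y] →+* T := eval₂RingHom (eval₂RingHom i.toRingHom x) y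
  have hΘs : Function.Surjective Θ := hsurj
  let ev : (φ : B →ₐ[k] k') → k' × k' → (B[X][Y] →+* k') := fun φ p =>
    eval₂RingHom (eval₂RingHom φ.toRingHom p.1) p.2
  have hev : ∀ (φ : B →ₐ[k] k') (p : k' × k') (G : B[X][Y]),
      Zeta30.evp p.1 p.2 (G.map (mapRingHom φ.toRingHom)) = ev φ p G := by
    intro φ p G
    rw [Zeta30.evp_apply, ← eval₂_evalRingHom, eval₂_map, coe_eval₂RingHom]
    congr 1
    refine Polynomial.ringHom_ext (fun c => ?_) ?_ <;> simp
  have hcomp : ∀ ψ : T →ₐ[k] k', ev (ψ.comp i) (ψ x, ψ y) = ψ.toRingHom.comp Θ := by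
    intro ψ
    refine Polynomial.ringHom_ext' (Polynomial.ringHom_ext' (RingHom.ext fun b => ?_) ?_) ?_
    · simp [ev, Θ]
    · simp [ev, Θ]
    · simp [ev, Θ]
  have hle : ∀ (φ : B →ₐ[k] k') (p : k' × k'), Zeta30.evp p.1 p.2 (g.map (mapRingHom φ.toRingHom)) = 0 →
      RingHom.ker Θ ≤ RingHom.ker (ev φ p) := fun φ p hp G hG => by
    obtain ⟨G', rfl⟩ := hker G hG
    rw [RingHom.mem_ker, map_mul, ← hev φ p g, hp, zero_mul]
  let lift : (φ : B →ₐ[k] k') → (p : k' × k') → Zeta30.evp p.1 p.2 (g.map (mapRingHom φ.toRingHom)) = 0 →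
      (T →+* k') := fun φ p hp =>
    RingHom.liftOfRightInverse Θ (Function.surjInv hΘs) (Function.rightInverse_surjInv hΘs) ⟨ev φ p, hle φ p hp⟩
  have hlift : ∀ φ p hp G, lift φ p hp (Θ G) = ev φ p G := fun φ p hp G =>
    RingHom.liftOfRightInverse_comp_apply Θ _ _ _ G
  have hiC : ∀ b, i b = Θ (C (C b)) := fun b => by simp [Θ]
  have hroot' : ∀ ψ : T →ₐ[k] k',
      Zeta30.evp (ψ x, ψ y).1 (ψ x, ψ y).2 (g.map (mapRingHom (ψ.comp i).toRingHom)) = 0 := fun ψ => by
    rw [hev, hcomp, RingHom.comp_apply, show Θ g = 0 from hroot, map_zero]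
  refine Nat.card_congr
    { toFun := fun ψ => ⟨ψ.comp i, (ψ x, ψ y), hroot' ψ⟩
      invFun := fun q =>
        { __ := lift q.1 q.2.1 q.2.2
          commutes' := fun c => by
            show lift q.1 q.2.1 q.2.2 (algebraMap k T c) = _
            rw [← i.commutes c, hiC, hlift _ _ q.2.2]
            simp [ev] }
      left_inv := fun ψ => AlgHom.ext fun z => by
        obtain ⟨G, rfl⟩ := hΘs z
        refine (hlift (ψ.comp i) (ψ x, ψ y) (hroot' ψ) G).trans ?_
        rw [hcomp]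
        rfl
      right_inv := ?_ }
  rintro ⟨φ, ⟨⟨a, b⟩, hab⟩⟩
  refine Sigma.subtype_ext (AlgHom.ext fun s => ?_) (Prod.ext ?_ ?_)
  · show lift φ (a, b) hab (i s) = _
    rw [hiC, hlift _ _ hab]
    simp [ev]
  · show lift φ (a, b) hab x = a
    rw [show x = Θ (C X) by simp [Θ], hlift _ _ hab]
    simp [ev]
  · show lift φ (a, b) hab y = b
    rw [show y = Θ X by simp [Θ], hlift _ _ hab]
    simp [ev]

/-- Points of `S[x, y]` for a monic relation `g` of least degree. -/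
theorem npts_fibration (S : Subalgebra k L) (hS : S.FG) (x y : L) (g : S[X][Y]) (hg : g.Monic)
    (hroot : g.eval₂ (eval₂RingHom S.val.toRingHom x) y = 0)
    (hmin : ∀ G : S[X][Y], G.degree < g.degree → G.eval₂ (eval₂RingHom S.val.toRingHom x) y = 0 → G = 0)
    (k' : Type u) [Field k'] [Algebra k k'] [Finite k'] [Fintype (S →ₐ[k] k')] :
    npts (k := k) (Algebra.adjoin k ((S : Set L) ∪ {x, y}) : Subalgebra k L) k' =
      ∑ φ : S →ₐ[k] k', Nat.card {p : k' × k' // Zeta30.evp p.1 p.2 (g.map (mapRingHom φ.toRingHom)) = 0} := by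
  classical
  set T : Subalgebra k L := Algebra.adjoin k ((S : Set L) ∪ {x, y}) with hT
  have hST : S ≤ T := fun z hz => Algebra.subset_adjoin (Or.inl hz)
  have hxT : x ∈ T := Algebra.subset_adjoin (Or.inr (by simp))
  have hyT : y ∈ T := Algebra.subset_adjoin (Or.inr (by simp))
  have hval : ∀ G : S[X][Y],
      ((G.eval₂ (eval₂RingHom (Subalgebra.inclusion hST).toRingHom ⟨x, hxT⟩) ⟨y, hyT⟩ : T) : L) =
        G.eval₂ (eval₂RingHom S.val.toRingHom x) y := by
    intro G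
    have h := Polynomial.hom_eval₂ G (eval₂RingHom (Subalgebra.inclusion hST).toRingHom ⟨x, hxT⟩)
      T.val.toRingHom ⟨y, hyT⟩
    refine h.trans ?_
    congr 1
    refine Polynomial.ringHom_ext (fun c => ?_) ?_ <;> simp
  rw [npts, ← Nat.card_sigma, card_algHom_model (Subalgebra.inclusion hST) ⟨x, hxT⟩ ⟨y, hyT⟩ g]
  · rintro ⟨z, hz⟩
    have h : ∃ G : S[X][Y], G.eval₂ (eval₂RingHom S.val.toRingHom x) y = z := by
      induction hz using Algebra.adjoin_induction with
      | mem w hw =>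
        rcases hw with hw | rfl | hw
        · exact ⟨C (C ⟨w, hw⟩), by simp⟩
        · exact ⟨C X, by simp⟩
        · rw [Set.mem_singleton_iff] at hw
          subst hw
          exact ⟨X, by simp⟩
      | algebraMap c => exact ⟨C (C (algebraMap k S c)), by simp⟩
      | add a b _ _ ha hb =>
        obtain ⟨A, rfl⟩ := ha
        obtain ⟨B, rfl⟩ := hb
        exact ⟨A + B, by simp⟩
      | mul a b _ _ ha hb =>
        obtain ⟨A, rfl⟩ := ha
        obtain ⟨B, rfl⟩ := hb
        exact ⟨A * B, by simp⟩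
    obtain ⟨G, hG⟩ := h
    exact ⟨G, Subtype.ext ((hval G).trans hG)⟩
  · exact Subtype.ext ((hval g).trans hroot)
  · intro G hG
    have hG' : G.eval₂ (eval₂RingHom S.val.toRingHom x) y = 0 := (hval G).symm.trans (congrArg Subtype.val hG)
    have h := congrArg (fun q => q.eval₂ (eval₂RingHom S.val.toRingHom x) y) (modByMonic_add_div G g)
    simp only [eval₂_add, eval₂_mul, hroot, zero_mul, add_zero, hG'] at h
    exact (modByMonic_eq_zero_iff_dvd hg).1 (hmin _ (degree_modByMonic_lt G hg) h)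

/-- The count for a good family. -/
theorem bound_fibration [Finite k] (S : Subalgebra k L) (hS : S.FG) (x y : L) (g : S[X][Y]) (hg : g.Monic)
    (hroot : g.eval₂ (eval₂RingHom S.val.toRingHom x) y = 0)
    (hmin : ∀ G : S[X][Y], G.degree < g.degree → G.eval₂ (eval₂RingHom S.val.toRingHom x) y = 0 → G = 0)
    (hgood : ∀ (F : Type u) [Field F] (φ : S →+* F),
      AbsIrr (g.map (mapRingHom φ)) ∧ derivative (g.map (mapRingHom φ)) ≠ 0) (r : ℕ) (c : ℝ)
    (hc : ∀ (k' : Type u) [Field k'] [Algebra k k'] [Finite k'],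
      |(npts (k := k) S k' : ℝ) - (Nat.card k' : ℝ) ^ r| ≤ c * ((Nat.card k' : ℝ) ^ r / Real.sqrt (Nat.card k'))) :
    ∃ c' : ℝ, ∀ (k' : Type u) [Field k'] [Algebra k k'] [Finite k'],
      |(npts (k := k) (Algebra.adjoin k ((S : Set L) ∪ {x, y}) : Subalgebra k L) k' : ℝ) - (Nat.card k' : ℝ) ^ (r + 1)| ≤
        c' * ((Nat.card k' : ℝ) ^ (r + 1) / Real.sqrt (Nat.card k')) := by
  classical
  obtain ⟨e, he⟩ : ∃ e, ∀ i, (g.coeff i).natDegree ≤ e :=
    ⟨g.support.sup fun i => (g.coeff i).natDegree, fun i => by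
      by_cases hi : i ∈ g.support
      · exact Finset.le_sup (f := fun i => (g.coeff i).natDegree) hi
      · rw [notMem_support_iff.1 hi, natDegree_zero]; exact Nat.zero_le _⟩
  set C₀ : ℝ := ((cst e g.natDegree : ℕ) : ℝ)
  refine ⟨(1 + |c|) * C₀ + |c|, fun k' _ _ _ => ?_⟩
  have : Algebra.FiniteType k S := (Subalgebra.fg_iff_finiteType S).1 hS
  have := finite_algHom (k := k) S k'
  letI := Fintype.ofFinite (S →ₐ[k] k')
  set Q : ℝ := (Nat.card k' : ℝ) with hQ
  have hZ : ∀ φ : S →ₐ[k] k',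
      |(Nat.card {p : k' × k' // Zeta30.evp p.1 p.2 (g.map (mapRingHom φ.toRingHom)) = 0} : ℝ) - Q| ≤ C₀ * Real.sqrt Q := by
    intro φ
    have h := curve_count (hg.map (mapRingHom φ.toRingHom)) (e := e)
      (fun i => by rw [coeff_map]; exact natDegree_map_le.trans (he i))
      (hgood k' φ.toRingHom).2 (hgood k' φ.toRingHom).1
    rwa [hg.natDegree_map] at h
  rw [npts_fibration S hS x y g hg hroot hmin k', Nat.cast_sum]
  set N : ℝ := (npts (k := k) S k' : ℝ)
  have h1 : |∑ φ : S →ₐ[k] k', (Nat.card {p : k' × k' // Zeta30.evp p.1 p.2 (g.map (mapRingHom φ.toRingHom)) = 0} : ℝ)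
      - N * Q| ≤ N * (C₀ * Real.sqrt Q) := by
    have hN : N = (Finset.univ : Finset (S →ₐ[k] k')).card := by
      simp [N, npts, Nat.card_eq_fintype_card]
    rw [show N * Q = ∑ _φ : S →ₐ[k] k', Q by rw [Finset.sum_const, nsmul_eq_mul, hN],
      ← Finset.sum_sub_distrib, show N * (C₀ * Real.sqrt Q) = ∑ _φ : S →ₐ[k] k', C₀ * Real.sqrt Q by
        rw [Finset.sum_const, nsmul_eq_mul, hN]]
    exact (Finset.abs_sum_le_sum_abs _ _).trans (Finset.sum_le_sum fun φ _ => hZ φ)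
  have hQ1 : (1 : ℝ) ≤ Q := by rw [hQ]; exact_mod_cast Nat.card_pos
  have hs1 : 1 ≤ Real.sqrt Q := Real.one_le_sqrt.2 hQ1
  have hs0 : 0 < Real.sqrt Q := by linarith
  have hp : 0 ≤ Q ^ r := by positivity
  have h2 : |N - Q ^ r| ≤ |c| * (Q ^ r / Real.sqrt Q) :=
    (hc k').trans (mul_le_mul_of_nonneg_right (le_abs_self c) (by positivity))
  have h3 : Q ^ r / Real.sqrt Q ≤ Q ^ r := div_le_self hp hs1
  have h4 : N ≤ (1 + |c|) * Q ^ r := by
    have := (abs_le.1 h2).2
    nlinarith [abs_nonneg c]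
  have h5 : Q ^ r * Real.sqrt Q = Q ^ (r + 1) / Real.sqrt Q := by
    rw [eq_div_iff hs0.ne', mul_assoc, Real.mul_self_sqrt (by linarith), pow_succ]
  have h6 : (Q ^ r / Real.sqrt Q) * Q = Q ^ (r + 1) / Real.sqrt Q := by rw [pow_succ]; ring
  have hC : 0 ≤ C₀ := Nat.cast_nonneg _
  calc _ ≤ |∑ φ : S →ₐ[k] k', (Nat.card {p : k' × k' // Zeta30.evp p.1 p.2 (g.map (mapRingHom φ.toRingHom)) = 0} : ℝ)
        - N * Q| + |N * Q - Q ^ (r + 1)| := abs_sub_le _ _ _
    _ ≤ N * (C₀ * Real.sqrt Q) + |c| * (Q ^ r / Real.sqrt Q) * Q := by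
        refine add_le_add h1 ?_
        rw [pow_succ, ← sub_mul, abs_mul, abs_of_nonneg (by linarith : (0:ℝ) ≤ Q)]
        exact mul_le_mul_of_nonneg_right h2 (by linarith)
    _ ≤ (1 + |c|) * Q ^ r * (C₀ * Real.sqrt Q) + |c| * (Q ^ r / Real.sqrt Q) * Q :=
        add_le_add (mul_le_mul_of_nonneg_right h4 (by positivity)) le_rfl
    _ = ((1 + |c|) * C₀ + |c|) * (Q ^ (r + 1) / Real.sqrt Q) := by
        rw [mul_assoc |c|, h6, show (1 + |c|) * Q ^ r * (C₀ * Real.sqrt Q) = (1 + |c|) * C₀ * (Q ^ r * Real.sqrt Q) by ring, h5]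
        ring

end Groth.Agent.LW24
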