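import Groth.Agent.LW24.Curves
import Mathlib.RingTheory.Nullstellensatz
import Mathlib.RingTheory.MvPolynomial.Localization
import Mathlib.Algebra.Polynomial.Monic

/-!
An absolutely irreducible monic family stays absolutely irreducible on a nonempty open set of parameters.
-/

set_option autoImplicit false
set_option linter.style.haveILetI false

open Polynomial
open scoped Polynomial.Bivariate

namespace Groth.Agent.LW24

universe u

theorem coeff_swap {R : Type*} [CommRing R] (p : R[X][Y]) (l j : ℕ) :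
    ((Bivariate.swap p).coeff l).coeff j = (p.coeff j).coeff l := by
  induction p using Polynomial.induction_on' with
  | add p q hp hq => simp [hp, hq]
  | monomial n f =>
    induction f using Polynomial.induction_on' with
    | add p q hp hq => simp only [map_add, coeff_add, hp, hq]
    | monomial m r =>
      rw [Bivariate.swap_monomial_monomial]
      simp only [coeff_monomial]
      split_ifs <;> simp_all [coeff_monomial]

/-- The `X`-degree bound passes to factors. -/
theorem natDegree_coeff_le_of_mul {F : Type*} [CommRing F] [IsDomain F] {A B : F[X][Y]} (hA : A ≠ 0)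
    (hB : B ≠ 0) {e : ℕ} (he : ∀ i, ((A * B).coeff i).natDegree ≤ e) (i : ℕ) :
    (A.coeff i).natDegree ≤ e := by
  have h1 : (Bivariate.swap (A * B)).natDegree ≤ e := by
    refine natDegree_le_iff_coeff_eq_zero.2 fun l hl => Polynomial.ext fun j => ?_
    rw [coeff_swap, coeff_zero]
    exact coeff_eq_zero_of_natDegree_lt ((he j).trans_lt hl)
  rw [map_mul, natDegree_mul ((map_ne_zero_iff _ Bivariate.swap.injective).2 hA)
    ((map_ne_zero_iff _ Bivariate.swap.injective).2 hB)] at h1
  refine natDegree_le_iff_coeff_eq_zero.2 fun l hl => ?_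
  rw [← coeff_swap, coeff_eq_zero_of_natDegree_lt (p := Bivariate.swap A) (by omega), coeff_zero]

section Universal

variable (B : Type u) [CommRing B] (i e : ℕ) {σ : Type} (ι : Fin i × Fin (e + 1) → σ)

/-- The universal monic polynomial of degree `i` with coefficients of degree at most `e`. -/
noncomputable def univMonic : (MvPolynomial σ B)[X][Y] :=
  Y ^ i + ∑ j : Fin i, C (∑ l : Fin (e + 1), C (MvPolynomial.X (ι (j, l))) * X ^ (l : ℕ)) * Y ^ (j : ℕ)

variable {B} {S : Type*} [CommRing S] (θ : MvPolynomial σ B →+* S)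

theorem map_univMonic : (univMonic B i e ι).map (mapRingHom θ) =
    Y ^ i + ∑ j : Fin i, C (∑ l : Fin (e + 1), C (θ (MvPolynomial.X (ι (j, l)))) * X ^ (l : ℕ)) * Y ^ (j : ℕ) := by
  simp [univMonic, Polynomial.map_sum]

theorem monic_map_univMonic : ((univMonic B i e ι).map (mapRingHom θ)).Monic := by
  rw [map_univMonic]
  refine monic_X_pow_add (lt_of_le_of_lt (degree_sum_le _ _) ?_)
  exact (Finset.sup_lt_iff (WithBot.bot_lt_coe i)).2
    fun j _ => (degree_C_mul_X_pow_le _ _).trans_lt (WithBot.coe_lt_coe.2 j.isLt)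

theorem natDegree_map_univMonic [Nontrivial S] : ((univMonic B i e ι).map (mapRingHom θ)).natDegree = i := by
  rw [map_univMonic]
  refine natDegree_eq_of_degree_eq_some ?_
  rw [degree_add_eq_left_of_degree_lt, degree_X_pow]
  rw [degree_X_pow]
  refine lt_of_le_of_lt (degree_sum_le _ _) ?_
  exact (Finset.sup_lt_iff (WithBot.bot_lt_coe i)).2
    fun j _ => (degree_C_mul_X_pow_le _ _).trans_lt (WithBot.coe_lt_coe.2 j.isLt)

theorem eq_map_univMonic {A : S[X][Y]} (hA : A.Monic) (hdeg : A.natDegree = i)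
    (he : ∀ j, (A.coeff j).natDegree ≤ e)
    (hθ : ∀ p, θ (MvPolynomial.X (ι p)) = (A.coeff p.1).coeff p.2) :
    A = (univMonic B i e ι).map (mapRingHom θ) := by
  rw [map_univMonic]
  conv_lhs => rw [hA.as_sum]
  rw [hdeg, ← Fin.sum_univ_eq_sum_range (fun j => C (A.coeff j) * Y ^ j) i]
  congr 1
  refine Finset.sum_congr rfl fun j _ => ?_
  congr 2
  rw [Fin.sum_univ_eq_sum_range (fun l => C (θ (MvPolynomial.X (ι (j, ⟨min l e, by omega⟩)))) * X ^ l) (e + 1) |> fun h =>
    (Finset.sum_congr rfl fun l _ => by simp [Nat.min_eq_left (Nat.lt_succ_iff.1 l.isLt)]).trans h]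
  conv_lhs => rw [(A.coeff j).as_sum_range' (e + 1) (Nat.lt_succ_of_le (he j))]
  refine Finset.sum_congr rfl fun l hl => ?_
  rw [Finset.mem_range, Nat.lt_succ_iff] at hl
  rw [hθ, C_mul_X_pow_eq_monomial]
  simp [Nat.min_eq_left hl]

end Universal

set_option maxHeartbeats 1000000 in
/-- No factorisation of given degree, spread out. -/
theorem exists_no_factor {B : Type u} [CommRing B] [IsDomain B] (K : Type u) [Field K] [Algebra B K]
    [IsFractionRing B K] (Ω : Type u) [Field Ω] [IsAlgClosed Ω] [Algebra K Ω] {g : B[X][Y]} (hg : g.Monic)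
    {m e : ℕ} (hm : g.natDegree = m) (he : ∀ i, (g.coeff i).natDegree ≤ e)
    (hΩ : ∀ A A' : (Polynomial (Polynomial Ω)), A.Monic → A'.Monic → A * A' = g.map (mapRingHom ((algebraMap K Ω).comp (algebraMap B K))) →
      A.natDegree = 0 ∨ A'.natDegree = 0) {i : ℕ} (hi : 0 < i) (him : i < m) :
    ∃ s : B, s ≠ 0 ∧ ∀ (F : Type u) [Field F] (φ : B →+* F), φ s ≠ 0 →
      ¬ ∃ A A' : F[X][Y], A.Monic ∧ A'.Monic ∧ A.natDegree = i ∧ A * A' = g.map (mapRingHom φ) := by
  classical
  subst hm
  let σ := (Fin i ⊕ Fin (g.natDegree - i)) × Fin (e + 1)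
  let ι₁ : Fin i × Fin (e + 1) → σ := fun p => (Sum.inl p.1, p.2)
  let ι₂ : Fin (g.natDegree - i) × Fin (e + 1) → σ := fun p => (Sum.inr p.1, p.2)
  let D : (MvPolynomial σ B)[X][Y] :=
    univMonic B i e ι₁ * univMonic B (g.natDegree - i) e ι₂ - g.map (mapRingHom MvPolynomial.C)
  let J : Ideal (MvPolynomial σ B) := Ideal.span (Set.range fun p : ℕ × ℕ => (D.coeff p.1).coeff p.2)
  have hD : ∀ {S : Type u} [CommRing S] (θ : MvPolynomial σ B →+* S),
      D.map (mapRingHom θ) = 0 ↔ J ≤ RingHom.ker θ := by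
    intro S _ θ
    constructor
    · intro h
      rw [Ideal.span_le]
      rintro _ ⟨p, rfl⟩
      have := congrArg (fun q => (q.coeff p.1).coeff p.2) h
      simpa [coeff_map] using this
    · intro h
      ext p q
      simpa [coeff_map] using h (Ideal.subset_span ⟨(p, q), rfl⟩)
  have hDmap : ∀ {S : Type u} [CommRing S] (θ : MvPolynomial σ B →+* S),
      D.map (mapRingHom θ) = (univMonic B i e ι₁).map (mapRingHom θ) * (univMonic B (g.natDegree - i) e ι₂).map (mapRingHom θ)
        - g.map (mapRingHom (θ.comp MvPolynomial.C)) := by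
    intro S _ θ
    rw [Polynomial.map_sub, Polynomial.map_mul, Polynomial.map_map, mapRingHom_comp]
  let η : MvPolynomial σ B →+* MvPolynomial σ K := MvPolynomial.map (algebraMap B K)
  have hJ : J.map η = ⊤ := by
    rw [← Ideal.radical_eq_top, ← MvPolynomial.vanishingIdeal_zeroLocus_eq_radical (K := Ω)]
    rw [eq_top_iff]
    intro p _ x hx
    exfalso
    let θ : MvPolynomial σ B →+* Ω := (MvPolynomial.aeval (R := K) x).toRingHom.comp η
    have h0 : D.map (mapRingHom θ) = 0 := (hD θ).2 fun q hq => RingHom.mem_ker.2 (hx _ (Ideal.mem_map_of_mem η hq))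
    rw [hDmap, sub_eq_zero] at h0
    have hcomp : θ.comp MvPolynomial.C = (algebraMap K Ω).comp (algebraMap B K) := by
      refine RingHom.ext fun c => ?_
      simp [θ, η]
    rw [hcomp] at h0
    have := hΩ _ _ (monic_map_univMonic i e ι₁ θ) (monic_map_univMonic (g.natDegree - i) e ι₂ θ) h0
    rw [natDegree_map_univMonic, natDegree_map_univMonic] at this
    omega
  let _ : Algebra (MvPolynomial σ B) (MvPolynomial σ K) := η.toAlgebra
  have : IsLocalization ((nonZeroDivisors B).map (MvPolynomial.C (σ := σ))) (MvPolynomial σ K) :=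
    MvPolynomial.isLocalization (nonZeroDivisors B) K
  have h1 : (1 : MvPolynomial σ K) ∈ J.map (algebraMap (MvPolynomial σ B) (MvPolynomial σ K)) := by
    show (1 : MvPolynomial σ K) ∈ J.map η
    rw [hJ]; trivial
  obtain ⟨⟨⟨q, hq⟩, ⟨_, s, hs, rfl⟩⟩, hqs⟩ :=
    (IsLocalization.mem_map_algebraMap_iff ((nonZeroDivisors B).map (MvPolynomial.C (σ := σ))) _).1 h1
  rw [one_mul] at hqs
  have hqC : MvPolynomial.C s = q :=
    MvPolynomial.map_injective (algebraMap B K) (IsFractionRing.injective B K) hqs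
  refine ⟨s, nonZeroDivisors.ne_zero hs, fun F _ φ hφ => ?_⟩
  rintro ⟨A, A', hA, hA', hdA, hAA⟩
  have hdA' : A'.natDegree = g.natDegree - i := by
    have := congrArg natDegree hAA
    rw [hA.natDegree_mul hA', hg.natDegree_map, hdA] at this
    omega
  have heA : ∀ j, ((A * A').coeff j).natDegree ≤ e := fun j => by
    rw [hAA, coeff_map]
    exact natDegree_map_le.trans (he j)
  have heA1 : ∀ j, (A.coeff j).natDegree ≤ e := natDegree_coeff_le_of_mul hA.ne_zero hA'.ne_zero heA
  have heA2 : ∀ j, (A'.coeff j).natDegree ≤ e :=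
    natDegree_coeff_le_of_mul hA'.ne_zero hA.ne_zero (fun j => mul_comm A A' ▸ heA j)
  let v : σ → F := fun p => match p.1 with
    | Sum.inl j => (A.coeff j).coeff p.2
    | Sum.inr j => (A'.coeff j).coeff p.2
  let θ : MvPolynomial σ B →+* F := MvPolynomial.eval₂Hom φ v
  have h0 : D.map (mapRingHom θ) = 0 := by
    rw [hDmap, ← eq_map_univMonic i e ι₁ θ hA hdA heA1 (fun p => by simp [θ, ι₁, v]),
      ← eq_map_univMonic (g.natDegree - i) e ι₂ θ hA' hdA' heA2 (fun p => by simp [θ, ι₂, v]),
      show θ.comp MvPolynomial.C = φ from RingHom.ext fun c => MvPolynomial.eval₂Hom_C φ v c, hAA, sub_self]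
  have := (hD θ).1 h0 hq
  rw [RingHom.mem_ker, ← hqC] at this
  exact hφ (by simpa [θ] using this)

set_option maxHeartbeats 1000000 in
/-- Good fibres. -/
theorem exists_good_parameters {B : Type u} [CommRing B] [IsDomain B] (K : Type u) [Field K] [Algebra B K]
    [IsFractionRing B K] {g : B[X][Y]} (hg : g.Monic) (hder : derivative g ≠ 0)
    (habs : Irreducible ((g.map (mapRingHom (algebraMap B K))).map (mapRingHom (algebraMap K (AlgebraicClosure K))))) :
    ∃ s : B, s ≠ 0 ∧ ∀ (F : Type u) [Field F] (φ : B →+* F), φ s ≠ 0 →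
      AbsIrr (g.map (mapRingHom φ)) ∧ derivative (g.map (mapRingHom φ)) ≠ 0 := by
  classical
  obtain ⟨a, ha⟩ := support_nonempty.2 hder
  obtain ⟨b, hb⟩ := support_nonempty.2 (mem_support_iff.1 ha)
  rw [mem_support_iff] at hb
  set m := g.natDegree
  obtain ⟨e, he⟩ : ∃ e, ∀ i, (g.coeff i).natDegree ≤ e :=
    ⟨g.support.sup fun i => (g.coeff i).natDegree, fun i => by
      by_cases hi : i ∈ g.support
      · exact Finset.le_sup (f := fun i => (g.coeff i).natDegree) hi
      · rw [notMem_support_iff.1 hi, natDegree_zero]; exact Nat.zero_le _⟩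
  let Ω := AlgebraicClosure K
  have hirrΩ := ((hg.map _).map _).irreducible_iff_natDegree.1 habs
  have key : ∀ i : ℕ, 0 < i → i < m → ∃ s : B, s ≠ 0 ∧ ∀ (F : Type u) [Field F] (φ : B →+* F), φ s ≠ 0 →
      ¬ ∃ A A' : F[X][Y], A.Monic ∧ A'.Monic ∧ A.natDegree = i ∧ A * A' = g.map (mapRingHom φ) :=
    fun i hi him => exists_no_factor K Ω hg rfl he (fun A A' hA hA' hAA => hirrΩ.2 A A' hA hA' (by
      rw [hAA, Polynomial.map_map, mapRingHom_comp])) hi him
  choose! s hs0 hs using key
  let S := (Finset.Ioo 0 m).prod s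
  refine ⟨S * (((derivative g).coeff a).coeff b), mul_ne_zero
    (Finset.prod_ne_zero_iff.2 fun i hi => hs0 i (Finset.mem_Ioo.1 hi).1 (Finset.mem_Ioo.1 hi).2) hb,
    fun F _ φ hφ => ?_⟩
  rw [map_mul] at hφ
  obtain ⟨hφS, hφb⟩ := ne_zero_and_ne_zero_of_mul hφ
  refine ⟨?_, fun h => hφb ?_⟩
  · let ψ : B →+* AlgebraicClosure F := (algebraMap F (AlgebraicClosure F)).comp φ
    have hgm : (g.map (mapRingHom φ)).map (mapRingHom (algebraMap F (AlgebraicClosure F))) = g.map (mapRingHom ψ) := by
      rw [Polynomial.map_map, mapRingHom_comp]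
    show Irreducible _
    rw [hgm, (hg.map (mapRingHom ψ)).irreducible_iff_natDegree]
    have hm0 : m ≠ 0 := by
      intro h
      exact hirrΩ.1 (eq_one_of_monic_natDegree_zero ((hg.map _).map _)
        (by rw [(hg.map _).natDegree_map, hg.natDegree_map]; exact h))
    refine ⟨fun h1 => hm0 ?_, fun A A' hA hA' hAA => ?_⟩
    · have := congrArg natDegree h1
      rwa [hg.natDegree_map, natDegree_one] at this
    by_contra hne
    push Not at hne
    have hsum := congrArg natDegree hAA
    rw [hA.natDegree_mul hA', hg.natDegree_map] at hsum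
    refine hs A.natDegree (Nat.pos_of_ne_zero hne.1) (by omega) (AlgebraicClosure F) ψ ?_ ⟨A, A', hA, hA', rfl, hAA⟩
    rw [RingHom.comp_apply]
    exact (_root_.map_ne_zero _).2 fun h0 => hφS (by
      rw [map_prod]; exact Finset.prod_eq_zero (Finset.mem_Ioo.2 ⟨Nat.pos_of_ne_zero hne.1, by omega⟩) h0)
  · rw [derivative_map] at h
    simpa [coeff_map] using congrArg (fun q => (q.coeff a).coeff b) h

end Groth.Agent.LW24
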