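import Groth.Agent.LW24.Fibration
import Groth.Agent.LW24.ClosedAbsIrr
import Groth.Agent.S6333
import Mathlib.FieldTheory.SeparablyGenerated
import Mathlib.FieldTheory.AlgebraicClosure
import Mathlib.FieldTheory.Finite.Basic

/-!
The Lang–Weil estimate for geometrically irreducible affine varieties, up to constants.
-/

set_option autoImplicit false
set_option linter.style.haveILetI false

open Polynomial
open scoped Polynomial.Bivariate IntermediateField

namespace Groth.Agent.LW24

universe u

variable {k : Type u} [Field k]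

/-- Data for the induction step. -/
theorem exists_step [Finite k] (L : Type u) [Field L] [Algebra k L] [Algebra.EssFiniteType k L]
    (hclosed : ∀ z : L, IsAlgebraic k z → z ∈ Set.range (algebraMap k L)) (r : ℕ)
    (hr : Algebra.trdeg k L = (r + 1 : ℕ)) :
    ∃ (K : IntermediateField k L) (x : L),
      Algebra.EssFiniteType k K ∧ (∀ z : K, IsAlgebraic k z → z ∈ Set.range (algebraMap k K)) ∧
      Algebra.trdeg k K = (r : ℕ) ∧ (∀ z : L, IsAlgebraic K z → z ∈ Set.range (algebraMap K L)) ∧
      Transcendental K x ∧ Algebra.IsSeparable K⟮x⟯ L ∧ FiniteDimensional K⟮x⟯ L := by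
  classical
  obtain ⟨s, hs, hsep⟩ := exists_isTranscendenceBasis_and_isSeparable_of_perfectField k L
  have hcard : s.card = r + 1 := by
    have h := hs.cardinalMk_eq_trdeg
    rw [hr, Cardinal.mk_coe_finset] at h
    exact_mod_cast h
  obtain ⟨x, hxs⟩ := Finset.card_pos.1 (by rw [hcard]; omega)
  let K0 := IntermediateField.adjoin k ((s.erase x : Finset L) : Set L)
  have hess : Algebra.EssFiniteType K0 L := Algebra.EssFiniteType.of_comp k K0 L
  have hfinK : FiniteDimensional K0 (algebraicClosure K0 L) :=
    S6333.result ((IntermediateField.fg_top_iff).2 hess)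
  let K' := algebraicClosure K0 L
  let K : IntermediateField k L := K'.restrictScalars k
  have hmemK : ∀ z : L, z ∈ K ↔ IsAlgebraic K0 z := fun z => mem_algebraicClosure_iff
  have hK0K : K0 ≤ K := fun z hz => (hmemK z).2 (isAlgebraic_algebraMap (⟨z, hz⟩ : K0))
  have hxK0 : Transcendental K0 x := by
    rw [IntermediateField.transcendental_adjoin_iff]
    have h := hs.1.transcendental_adjoin (s := {i : {z // z ∈ s} | (i : L) ≠ x}) (i := ⟨x, hxs⟩) (by simp)
    have e : Subtype.val '' {i : {z // z ∈ s} | (i : L) ≠ x} = ((s.erase x : Finset L) : Set L) := by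
      ext z
      simp [and_comm]
    rw [e] at h
    exact h
  have hclosedK : ∀ z : L, IsAlgebraic K z → z ∈ Set.range (algebraMap K L) := by
    intro z hz
    letI : Algebra K0 K := (IntermediateField.inclusion hK0K).toRingHom.toAlgebra
    have : IsScalarTower K0 K L := IsScalarTower.of_algebraMap_eq fun _ => rfl
    have : Algebra.IsAlgebraic K0 K := ⟨fun w => (isAlgebraic_algebraMap_iff Subtype.val_injective).1 ((hmemK w).1 w.2)⟩
    exact ⟨⟨z, (hmemK z).2 (hz.restrictScalars K0)⟩, rfl⟩
  have hxK : Transcendental K x := fun h => hxK0 <| by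
    obtain ⟨w, hw⟩ := hclosedK x h
    exact (hmemK x).1 (hw ▸ w.2)
  -- `K` is generated by finitely many elements
  have hessK : Algebra.EssFiniteType k K := by
    have : Algebra.EssFiniteType k K0 :=
      (IntermediateField.essFiniteType_iff (K := K0)).2 (IntermediateField.fg_adjoin_finset _)
    have : Algebra.EssFiniteType K0 K' := inferInstance
    exact Algebra.EssFiniteType.comp k K0 K'
  have hsepx : Algebra.IsSeparable K⟮x⟯ L := by
    have hle : IntermediateField.adjoin k (s : Set L) ≤ (K⟮x⟯).restrictScalars k := by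
      rw [IntermediateField.adjoin_le_iff]
      intro z hz
      by_cases hzx : z = x
      · subst hzx; exact IntermediateField.mem_adjoin_simple_self K z
      · exact IntermediateField.algebraMap_mem K⟮x⟯
          (⟨z, hK0K (IntermediateField.subset_adjoin k _ (Finset.mem_coe.2 (Finset.mem_erase.2 ⟨hzx, hz⟩)))⟩ : K)
    letI : Algebra (IntermediateField.adjoin k (s : Set L)) K⟮x⟯ :=
      (IntermediateField.inclusion hle).toRingHom.toAlgebra
    have : IsScalarTower (IntermediateField.adjoin k (s : Set L)) K⟮x⟯ L :=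
      IsScalarTower.of_algebraMap_eq fun _ => rfl
    exact Algebra.isSeparable_tower_top_of_isSeparable (IntermediateField.adjoin k (s : Set L)) _ L
  have hfinx : FiniteDimensional K⟮x⟯ L := by
    have : Algebra.EssFiniteType K⟮x⟯ L := by
      have : Algebra.EssFiniteType K L := Algebra.EssFiniteType.of_comp k K L
      exact Algebra.EssFiniteType.of_comp K K⟮x⟯ L
    exact Algebra.finite_of_essFiniteType_of_isAlgebraic
  refine ⟨K, x, hessK, fun z hz => ?_, ?_, hclosedK, hxK, hsepx, hfinx⟩
  · obtain ⟨a, ha⟩ := hclosed (z : L) (isAlgebraic_algebraMap_iff (S := K) (A := L) Subtype.val_injective |>.2 hz)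
    exact ⟨a, Subtype.ext ha⟩
  · have hKL : Algebra.trdeg K L = 1 := by
      have hi : AlgebraicIndependent K (fun _ : PUnit.{u + 1} => x) :=
        (algebraicIndependent_singleton_iff PUnit.unit).2 hxK
      have halg : Algebra.IsAlgebraic (Algebra.adjoin K (Set.range fun _ : PUnit.{u + 1} => x)) L := by
        rw [Set.range_const, ← IntermediateField.isAlgebraic_adjoin_iff_top]
        infer_instance
      rw [← (hi.isTranscendenceBasis_iff_isAlgebraic.2 halg).cardinalMk_eq_trdeg, Cardinal.mk_punit]
    have h := trdeg_add_eq k K (A := L)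
    rw [hKL, hr] at h
    push_cast at h
    exact (Cardinal.add_right_inj_of_lt_aleph0 Cardinal.one_lt_aleph0).1 h

set_option maxHeartbeats 1000000 in
/-- Points bound. -/
theorem points_bound (k : Type u) [Field k] [Finite k] (r : ℕ) :
    ∀ (L : Type u) [Field L] [Algebra k L] [Algebra.EssFiniteType k L],
      (∀ z : L, IsAlgebraic k z → z ∈ Set.range (algebraMap k L)) → Algebra.trdeg k L = (r : ℕ) →
      ∀ S : Subalgebra k L, S.FG → IsFull S →
        ∃ c : ℝ, ∀ (k' : Type u) [Field k'] [Algebra k k'] [Finite k'],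
          |(npts (k := k) S k' : ℝ) - (Nat.card k' : ℝ) ^ r| ≤ c * ((Nat.card k' : ℝ) ^ r / Real.sqrt (Nat.card k')) := by
  classical
  induction r with
  | zero =>
    intro L _ _ _ hclosed hr S hS hfull
    have halg : Algebra.IsAlgebraic k L := ⟨fun z => by
      by_contra hz
      have h := ((algebraicIndependent_singleton_iff PUnit.unit).2 hz :
        AlgebraicIndependent k (fun _ : PUnit.{u + 1} => z)).cardinalMk_le_trdeg
      rw [hr, Cardinal.mk_punit, Nat.cast_zero] at h
      exact one_ne_zero (le_zero_iff.1 h)⟩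
    have hsurj : Function.Surjective (algebraMap k S) := fun z => by
      obtain ⟨a, ha⟩ := hclosed z (Algebra.IsAlgebraic.isAlgebraic _)
      exact ⟨a, Subtype.ext ha⟩
    refine ⟨0, fun k' _ _ _ => ?_⟩
    have e : (S →ₐ[k] k') ≃ PUnit.{1} :=
      { toFun := fun _ => PUnit.unit
        invFun := fun _ => (Algebra.ofId k k').comp
          (AlgEquiv.ofBijective (Algebra.ofId k S) ⟨(algebraMap k S).injective, hsurj⟩).symm.toAlgHom
        left_inv := fun φ => AlgHom.ext fun z => by
          obtain ⟨a, rfl⟩ := hsurj z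
          simp
        right_inv := fun _ => rfl }
    simp [npts, Nat.card_congr e]
  | succ r ih =>
    intro L _ _ _ hclosed hr S hS hfull
    obtain ⟨K, x, hessK, hclosedk, hrK, hclosedK, hx, _, _⟩ := exists_step L hclosed r hr
    obtain ⟨y₀, hy₀⟩ := Field.exists_primitive_element K⟮x⟯ L
    -- a monic integral relation
    let gen : K⟮x⟯ := ⟨x, IntermediateField.mem_adjoin_simple_self K x⟩
    letI : Algebra K[X] K⟮x⟯ := (aeval (R := K) gen).toRingHom.toAlgebra
    letI : Algebra K[X] L := (aeval (R := K) x).toRingHom.toAlgebra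
    have : IsScalarTower K[X] K⟮x⟯ L := IsScalarTower.of_algebraMap_eq fun p => (aeval_algebraMap_apply L gen p)
    have hinj : Function.Injective (algebraMap K[X] K⟮x⟯) := fun a b h => by
      have := congrArg (algebraMap K⟮x⟯ L) h
      rw [← IsScalarTower.algebraMap_apply, ← IsScalarTower.algebraMap_apply] at this
      exact (transcendental_iff_injective.1 hx) this
    have : FaithfulSMul K[X] K⟮x⟯ := (faithfulSMul_iff_algebraMap_injective _ _).2 hinj
    have : IsFractionRing K[X] K⟮x⟯ := IsFractionRing.of_field _ _ fun z => by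
      obtain ⟨a, b, hab⟩ := (IntermediateField.mem_adjoin_simple_iff K (z : L)).1 z.2
      refine ⟨a, b, Subtype.ext ?_⟩
      rw [hab]
      show _ = algebraMap K⟮x⟯ L (_ / _)
      rw [map_div₀, ← IsScalarTower.algebraMap_apply, ← IsScalarTower.algebraMap_apply]
      rfl
    have : FaithfulSMul K[X] L := (faithfulSMul_iff_algebraMap_injective _ _).2 fun a b h =>
      (transcendental_iff_injective.1 hx) h
    obtain ⟨d, hd0, hdy⟩ := ((IsFractionRing.isAlgebraic_iff K[X] K⟮x⟯ L).2
      (Algebra.IsAlgebraic.isAlgebraic y₀)).exists_integral_multiple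
    set y : L := d • y₀ with hy
    have hdu : algebraMap K[X] K⟮x⟯ d ≠ 0 := (map_ne_zero_iff _ hinj).2 hd0
    have hytop : IntermediateField.adjoin K⟮x⟯ {y} = ⊤ := by
      rw [eq_top_iff, ← hy₀, IntermediateField.adjoin_simple_le_iff]
      have : y₀ = (algebraMap K⟮x⟯ L (algebraMap K[X] K⟮x⟯ d))⁻¹ * y := by
        rw [hy, Algebra.smul_def, IsScalarTower.algebraMap_apply K[X] K⟮x⟯ L,
          inv_mul_cancel_left₀ ((map_ne_zero_iff _ (algebraMap K⟮x⟯ L).injective).2 hdu)]
      rw [this]
      exact mul_mem (inv_mem (IntermediateField.algebraMap_mem _ _)) (IntermediateField.mem_adjoin_simple_self _ _)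
    set g := minpoly K[X] y with hgdef
    have hgm : g.Monic := minpoly.monic hdy
    have hgmap : minpoly K⟮x⟯ y = g.map (algebraMap K[X] K⟮x⟯) :=
      minpoly.isIntegrallyClosed_eq_field_fractions' K⟮x⟯ hdy
    have hdeg : (minpoly K⟮x⟯ y).natDegree = g.natDegree := by rw [hgmap, hgm.natDegree_map]
    have hsepy : IsSeparable K⟮x⟯ y := Algebra.IsSeparable.isSeparable _ _
    have hder : derivative g ≠ 0 := fun h0 => by
      have h := hsepy.aeval_derivative_ne_zero (minpoly.aeval K⟮x⟯ y)
      rw [hgmap, derivative_map, h0, Polynomial.map_zero, map_zero] at h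
      exact h rfl
    obtain ⟨p, hp⟩ := CharP.exists k
    have : Fact p.Prime := ⟨(CharP.char_is_prime_or_zero k p).resolve_right fun h0 => by
      subst h0
      have := CharP.charP_to_charZero k
      exact not_finite k⟩
    have : CharP K p := charP_of_injective_algebraMap (algebraMap k K).injective p
    have habsK := irreducible_map_algClosure p hclosedK hx hgm (Polynomial.natDegree_pos_iff_degree_pos.2
      (minpoly.degree_pos hdy)) (minpoly.aeval K[X] y) hsepy hdeg
    -- a model of `K`
    obtain ⟨t, ht⟩ := IntermediateField.fg_top k K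
    let coeffs : Finset K := g.support.biUnion fun i => (g.coeff i).support.image fun l => (g.coeff i).coeff l
    let R0 : Subalgebra k K := Algebra.adjoin k ((t ∪ coeffs : Finset K) : Set K)
    have hfull0 : IsFull R0 := fun z => by
      have hz : z ∈ IntermediateField.adjoin k (R0 : Set K) :=
        IntermediateField.adjoin.mono k _ _ (fun a ha => Algebra.subset_adjoin (Finset.mem_coe.2
          (Finset.mem_union_left _ (Finset.mem_coe.1 ha)))) (ht.symm ▸ IntermediateField.mem_top)
      obtain ⟨a, ha, b, hb, hab⟩ := IntermediateField.mem_adjoin_iff_div.1 hz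
      rw [Algebra.adjoin_eq] at ha hb
      rcases eq_or_ne b 0 with rfl | hb0
      · exact ⟨0, 1, by simp, by simpa using hab⟩
      · exact ⟨⟨a, ha⟩, ⟨b, hb⟩, hb0, hab⟩
    have hgl : g ∈ lifts (mapRingHom R0.val.toRingHom) := by
      rw [lifts_iff_coeff_lifts]
      intro i
      refine (Polynomial.mem_lifts _).1 ((lifts_iff_coeff_lifts _).2 fun l => ?_)
      by_cases h : (g.coeff i).coeff l = 0
      · exact ⟨0, by rw [h, map_zero]⟩
      · exact ⟨⟨_, Algebra.subset_adjoin (Finset.mem_coe.2 (Finset.mem_union_right _ (Finset.mem_biUnion.2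
          ⟨i, mem_support_iff.2 fun h' => h (by rw [h', coeff_zero]), Finset.mem_image.2 ⟨l, mem_support_iff.2 h, rfl⟩⟩)))⟩,
          rfl⟩
    obtain ⟨g0, hg0, -, hg0m⟩ := lifts_and_natDegree_eq_and_monic hgl hgm
    have : IsFractionRing R0 K := by
      have : FaithfulSMul R0 K := (faithfulSMul_iff_algebraMap_injective _ _).2 Subtype.val_injective
      exact IsFractionRing.of_field _ _ fun z => by
        obtain ⟨a, b, -, h⟩ := hfull0 z
        exact ⟨a, b, h⟩
    obtain ⟨s, hs0, hs⟩ := exists_good_parameters K hg0m (fun h0 => hder (by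
      rw [← hg0, derivative_map, h0, Polynomial.map_zero])) (by
      show Irreducible ((g0.map (mapRingHom R0.val.toRingHom)).map _)
      rw [hg0]; exact habsK)
    let R1 : Subalgebra k K := Algebra.adjoin k ((insert (s : K)⁻¹ (t ∪ coeffs) : Finset K) : Set K)
    have h01 : R0 ≤ R1 := Algebra.adjoin_mono (Finset.coe_subset.2 (Finset.subset_insert _ _))
    have hfull1 : IsFull R1 := IsFull.mono h01 hfull0
    have hunit : ∀ (F : Type u) [Field F] (φ : R1 →+* F), φ (Subalgebra.inclusion h01 s) ≠ 0 := by
      intro F _ φ h0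
      have hmul : Subalgebra.inclusion h01 s * ⟨(s : K)⁻¹, Algebra.subset_adjoin (Finset.mem_coe.2 (Finset.mem_insert_self _ _))⟩ = 1 :=
        Subtype.ext (mul_inv_cancel₀ fun h => hs0 (Subtype.ext h))
      have := congrArg φ hmul
      rw [map_mul, h0, zero_mul, map_one] at this
      exact zero_ne_one this
    obtain ⟨c₁, hc₁⟩ := ih K hclosedk hrK R1 ⟨_, rfl⟩ hfull1
    -- move it into `L`
    let S1 : Subalgebra k L := R1.map K.val
    let e : R1 ≃ₐ[k] S1 := R1.equivMapOfInjective K.val Subtype.val_injective
    let ρ : R0 →+* S1 := e.toRingEquiv.toRingHom.comp (Subalgebra.inclusion h01).toRingHom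
    let g1 := g0.map (mapRingHom ρ)
    have hS1fg : S1.FG := (Subalgebra.FG.map _ ⟨_, rfl⟩)
    have hcomp : ∀ G : S1[X][Y], G.eval₂ (eval₂RingHom S1.val.toRingHom x) y =
        aeval y ((G.map (mapRingHom (e.symm.toRingEquiv.toRingHom))).map (mapRingHom R1.val.toRingHom)) := by
      intro G
      rw [aeval_def, eval₂_map, eval₂_map]
      congr 1
      refine Polynomial.ringHom_ext (fun a => ?_) ?_
      · simp [RingHom.algebraMap_toAlgebra]
        exact congrArg Subtype.val (e.apply_symm_apply a).symm
      · simp [RingHom.algebraMap_toAlgebra]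
    have hg1 : (g1.map (mapRingHom (e.symm.toRingEquiv.toRingHom))).map (mapRingHom R1.val.toRingHom) = g := by
      rw [← hg0]
      simp only [g1, Polynomial.map_map, mapRingHom_comp]
      congr 2
      refine RingHom.ext fun a => ?_
      simp [ρ]
    have hroot : g1.eval₂ (eval₂RingHom S1.val.toRingHom x) y = 0 := by
      rw [hcomp, hg1, hgdef, minpoly.aeval]
    have hmin : ∀ G : S1[X][Y], G.degree < g1.degree → G.eval₂ (eval₂RingHom S1.val.toRingHom x) y = 0 → G = 0 := by
      intro G hG h0
      rw [hcomp] at h0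
      by_contra hne
      set ψ : S1 →+* K := R1.val.toRingHom.comp e.symm.toRingEquiv.toRingHom
      have hψ : Function.Injective ψ := Subtype.val_injective.comp e.symm.injective
      rw [Polynomial.map_map, mapRingHom_comp] at h0
      have hne' : G.map (mapRingHom ψ) ≠ 0 :=
        (Polynomial.map_ne_zero_iff (Polynomial.map_injective _ hψ)).2 hne
      have h1 := degree_le_of_dvd (minpoly.isIntegrallyClosed_dvd hdy h0) hne'
      have h2 : g.degree = g1.degree := by
        rw [← hg1, ((hg0m.map (mapRingHom ρ)).map _).degree_map, (hg0m.map (mapRingHom ρ)).degree_map]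
      rw [← hgdef, h2] at h1
      exact not_lt.2 (h1.trans degree_map_le) hG
    have hgood : ∀ (F : Type u) [Field F] (φ : S1 →+* F),
        AbsIrr (g1.map (mapRingHom φ)) ∧ derivative (g1.map (mapRingHom φ)) ≠ 0 := by
      intro F _ φ
      rw [show g1.map (mapRingHom φ) = g0.map (mapRingHom (φ.comp ρ)) by
        simp only [g1, Polynomial.map_map, mapRingHom_comp]]
      exact hs F _ (hunit F (φ.comp e.toRingEquiv.toRingHom))
    obtain ⟨c', hc'⟩ := bound_fibration (k := k) S1 hS1fg x y g1 (hg0m.map _) hroot hmin hgood r c₁ (by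
      intro k' _ _ _
      have : npts (k := k) S1 k' = npts (k := k) R1 k' := Nat.card_congr
        ⟨fun φ => φ.comp e.toAlgHom, fun φ => φ.comp e.symm.toAlgHom,
          fun φ => AlgHom.ext fun a => by simp, fun φ => AlgHom.ext fun a => by simp⟩
      rw [this]
      exact hc₁ k')
    set T : Subalgebra k L := Algebra.adjoin k ((S1 : Set L) ∪ {x, y})
    have hTfg : T.FG := by
      have : T = S1 ⊔ Algebra.adjoin k ({x, y} : Set L) := by
        show Algebra.adjoin k ((S1 : Set L) ∪ {x, y}) = _
        rw [Algebra.adjoin_union, Algebra.adjoin_eq]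
      rw [this]
      exact hS1fg.sup (Subalgebra.fg_def.2 ⟨{x, y}, by simp, rfl⟩)
    have hTfull : IsFull T := by
      intro z
      have hz : z ∈ IntermediateField.adjoin k (T : Set L) := by
        set M := IntermediateField.adjoin k (T : Set L)
        have hT : ∀ w ∈ T, w ∈ M := fun w hw => IntermediateField.subset_adjoin k _ hw
        have hKM : ∀ w : K, (w : L) ∈ M := fun w => by
          obtain ⟨a, b, hb, hw⟩ := hfull1 w
          rw [hw]
          show ((a : K) : L) / ((b : K) : L) ∈ M
          exact div_mem (hT _ (Algebra.subset_adjoin (Or.inl ⟨a, a.2, rfl⟩)))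
            (hT _ (Algebra.subset_adjoin (Or.inl ⟨b, b.2, rfl⟩)))
        have hxM : ∀ w : K⟮x⟯, (w : L) ∈ M := by
          rintro ⟨w, hw⟩
          induction hw using IntermediateField.adjoin_induction with
          | mem a ha =>
            rw [Set.mem_singleton_iff] at ha
            subst ha
            exact hT _ (Algebra.subset_adjoin (Or.inr (by simp)))
          | algebraMap a => exact hKM a
          | add a b _ _ ha hb => exact add_mem ha hb
          | inv a _ ha => exact inv_mem ha
          | mul a b _ _ ha hb => exact mul_mem ha hb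
        have hz' : z ∈ IntermediateField.adjoin K⟮x⟯ {y} := hytop.symm ▸ IntermediateField.mem_top
        induction hz' using IntermediateField.adjoin_induction with
        | mem a ha =>
          rw [Set.mem_singleton_iff] at ha
          subst ha
          exact hT _ (Algebra.subset_adjoin (Or.inr (by simp)))
        | algebraMap a => exact hxM a
        | add a b _ _ ha hb => exact add_mem ha hb
        | inv a _ ha => exact inv_mem ha
        | mul a b _ _ ha hb => exact mul_mem ha hb
      obtain ⟨a, ha, b, hb, hab⟩ := IntermediateField.mem_adjoin_iff_div.1 hz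
      rw [Algebra.adjoin_eq] at ha hb
      rcases eq_or_ne b 0 with rfl | hb0
      · exact ⟨0, 1, by simp, by simpa using hab⟩
      · exact ⟨⟨a, ha⟩, ⟨b, hb⟩, hb0, hab⟩
    obtain ⟨c'', hc''⟩ := exists_bound_birational (k := k) (r + 1) hr.le T S hTfg hS hTfull hfull
    refine ⟨c' + |c''|, fun k' _ _ _ => ?_⟩
    rw [add_mul]
    have a1 := hc' k'
    have a2 := ((hc'' k').trans (mul_le_mul_of_nonneg_right (le_abs_self c'') (by positivity))).trans
      (mul_le_mul_of_nonneg_left (div_card_le (r + 1) (Nat.card k') Nat.card_pos) (abs_nonneg c''))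
    calc _ ≤ |(npts (k := k) S k' : ℝ) - npts (k := k) T k'| + |(npts (k := k) T k' : ℝ) - (Nat.card k' : ℝ) ^ (r + 1)| :=
          abs_sub_le _ _ _
      _ ≤ _ := by linarith

end Groth.Agent.LW24
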