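import Groth.Agent.LW24.Assembly
import Mathlib.Analysis.SpecialFunctions.Pow.Real

/-!
The Lang-Weil estimate with one main term for each geometrically irreducible top component.
-/

set_option autoImplicit false
set_option linter.style.haveILetI false

open CategoryTheory CategoryTheory.Limits AlgebraicGeometry TopologicalSpace

namespace Groth.Agent.LW24

universe u

variable {k : Type u} [Field k] {X : Scheme.{u}} (f : X ⟶ Spec (CommRingCat.of k))

/-- Number of components of the geometric preimage. -/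
noncomputable abbrev geomCount (Z : Set X) : ℕ :=
  Nat.card (irreducibleComponents ((pullback.fst f (Spec.map (CommRingCat.ofHom
    (algebraMap k (AlgebraicClosure k))))).base ⁻¹' Z))

variable [Finite k] [LocallyOfFiniteType f] [QuasiCompact f]

theorem component_piece {Z : Set X} (hZ : Z ∈ irreducibleComponents X) (r : ℕ)
    (hr : topologicalKrullDim Z = r) :
    0 < geomCount f Z ∧ ∃ U : X.Opens, (U : Set X) ⊆ Z ∧ hZ.1.genericPoint ∈ U ∧
      (∀ Z' ∈ irreducibleComponents X, Z' ≠ Z → Disjoint (U : Set X) Z') ∧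
      ∃ c : ℝ, 0 ≤ c ∧ ∀ (k' : Type u) [Field k'] [Algebra k k'] [Finite k'],
        (geomCount f Z ∣ Module.finrank k k' →
          |(Nat.card {g : Pts f k' // loc f g ∈ (U : Set X)} : ℝ) - geomCount f Z * (Nat.card k' : ℝ) ^ r| ≤
            c * ((Nat.card k' : ℝ) ^ r / Real.sqrt (Nat.card k'))) ∧
        (¬ geomCount f Z ∣ Module.finrank k k' →
          (Nat.card {g : Pts f k' // loc f g ∈ (U : Set X)} : ℝ) ≤ c * ((Nat.card k' : ℝ) ^ r / Nat.card k')) := by
  have : IsLocallyNoetherian X := LocallyOfFiniteType.isLocallyNoetherian f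
  have : CompactSpace X := QuasiCompact.compactSpace_of_compactSpace f
  have : IsNoetherian X := {}
  have hcl := isClosed_of_mem_irreducibleComponents _ hZ
  have hgen := hZ.1.isGenericPoint_genericPoint hcl
  set η := hZ.1.genericPoint
  have hfin : (irreducibleComponents X \ {Z}).Finite :=
    TopologicalSpace.NoetherianSpace.finite_irreducibleComponents.diff
  have hclosed : IsClosed (⋃ Z' ∈ irreducibleComponents X \ {Z}, Z') :=
    hfin.isClosed_biUnion fun Z' h => isClosed_of_mem_irreducibleComponents _ h.1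
  have hη : η ∉ ⋃ Z' ∈ irreducibleComponents X \ {Z}, Z' := by
    intro h
    obtain ⟨Z', hZ', hmem⟩ := Set.mem_iUnion₂.1 h
    have hsub : Z ⊆ Z' := by
      rw [← hgen.def]
      exact closure_minimal (Set.singleton_subset_iff.2 hmem) (isClosed_of_mem_irreducibleComponents _ hZ'.1)
    exact hZ'.2 (Set.Subset.antisymm (hZ.2 hZ'.1.1 hsub) hsub)
  obtain ⟨U, hU, hηU, hsub⟩ :=
    exists_isAffineOpen_mem_and_subset (U := (⟨_, hclosed.isOpen_compl⟩ : X.Opens)) hη
  have hUZ : (U : Set X) ⊆ Z := fun x hx => by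
    have hc := irreducibleComponent_mem_irreducibleComponents x
    by_contra h
    exact hsub hx (Set.mem_iUnion₂.2 ⟨_, ⟨hc, fun he => h (he ▸ mem_irreducibleComponent)⟩,
      mem_irreducibleComponent⟩)
  have hdisj : ∀ Z' ∈ irreducibleComponents X, Z' ≠ Z → Disjoint (U : Set X) Z' := fun Z' hZ' hne =>
    Set.disjoint_left.2 fun x hx hx' => hsub hx (Set.mem_iUnion₂.2 ⟨Z', ⟨hZ', hne⟩, hx'⟩)
  have hm : geomCount f Z = _ := card_components_preimage f hZ
  have hd : WC97.tdegN f η = r := by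
    have h := WC97.topologicalKrullDim_closure f η
    rw [hgen.def, hr] at h
    exact_mod_cast h.symm
  obtain ⟨c, hc0, hc⟩ := piece_bound f hU η hηU fun x hx => hgen.specializes (hUZ hx)
  refine ⟨?_, U, hUZ, hηU, hdisj, c, hc0, fun k' _ _ _ => ?_⟩
  · rw [hm]
    letI := (WC97.kStr f η).toAlgebra
    have := finite_separableClosure_residueField f η
    exact Module.finrank_pos
  · rw [hm, ← hd]
    exact hc k'

omit [LocallyOfFiniteType f] [QuasiCompact f] in
theorem rpow_half (e r : ℕ) (x : ℝ) (hx : 0 < x) :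
    (x ^ e) ^ r / Real.sqrt (x ^ e) = x ^ ((e : ℝ) * ((r : ℝ) - 1 / 2)) := by
  rw [Real.sqrt_eq_rpow, ← Real.rpow_natCast x e, ← Real.rpow_natCast (x ^ (e : ℝ)) r, ← Real.rpow_mul hx.le,
    ← Real.rpow_mul hx.le, ← Real.rpow_sub hx, ← mul_sub]

omit [LocallyOfFiniteType f] [QuasiCompact f] in
theorem rpow_one (e r : ℕ) (x : ℝ) (hx : 0 < x) :
    (x ^ e) ^ r / x ^ e = x ^ ((e : ℝ) * ((r : ℝ) - 1)) := by
  rw [← Real.rpow_natCast x e, ← Real.rpow_natCast (x ^ (e : ℝ)) r, ← Real.rpow_mul hx.le,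
    ← Real.rpow_sub hx, mul_sub, mul_one]

set_option maxHeartbeats 1000000 in
/-- The estimate. -/
theorem lang_weil_components (r : ℕ) (hr : topologicalKrullDim X = r) :
    ∃ C : ℝ, 0 ≤ C ∧ ∀ e : ℕ, 1 ≤ e →
      ∀ a : ℕ, a = (∑ᶠ (Z : Set X) (_ : Z ∈ irreducibleComponents X ∧ topologicalKrullDim Z = r ∧
          geomCount f Z ∣ e), geomCount f Z) →
      (0 < a → |(Zeta.nPts f e : ℝ) - (a : ℝ) * (Nat.card k : ℝ) ^ (e * r)| ≤
          C * (Nat.card k : ℝ) ^ ((e : ℝ) * ((r : ℝ) - 1 / 2))) ∧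
      (a = 0 → (Zeta.nPts f e : ℝ) ≤ C * (Nat.card k : ℝ) ^ ((e : ℝ) * ((r : ℝ) - 1))) := by
  classical
  have : IsLocallyNoetherian X := LocallyOfFiniteType.isLocallyNoetherian f
  have : CompactSpace X := QuasiCompact.compactSpace_of_compactSpace f
  have : IsNoetherian X := {}
  let top : Set (Set X) := {Z | Z ∈ irreducibleComponents X ∧ topologicalKrullDim Z = r}
  have : Finite top :=
    (TopologicalSpace.NoetherianSpace.finite_irreducibleComponents.subset fun Z hZ => hZ.1).to_subtype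
  letI := Fintype.ofFinite top
  choose hpos U hUZ hηU hdisj c hc0 hc using fun Z : top => component_piece f Z.2.1 r Z.2.2
  let R : Set X := (⋃ Z, (U Z : Set X))ᶜ
  have hRcl : IsClosed R := (isOpen_iUnion fun Z => (U Z).2).isClosed_compl
  obtain ⟨cR, hcR0, hcR⟩ := remainder_bound f hRcl r fun l => length_add_one_le r hr hRcl
    (fun Z hZ hZr hsub => hsub (a := hZ.1.genericPoint)
      (hZ.1.isGenericPoint_genericPoint (isClosed_of_mem_irreducibleComponents _ hZ)).mem
      (Set.mem_iUnion.2 ⟨⟨Z, hZ, hZr⟩, hηU ⟨Z, hZ, hZr⟩⟩)) l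
  refine ⟨(∑ Z, c Z) + cR, add_nonneg (Finset.sum_nonneg fun Z _ => hc0 Z) hcR0, fun e he a ha => ?_⟩
  obtain ⟨k', _, _, _, hk⟩ := Zeta24.exists_extension (k := k) e (by omega)
  have : Module.Finite k k' := Module.Finite.of_finite
  have hQ : Nat.card k' = Nat.card k ^ e := by rw [Module.natCard_eq_pow_finrank (K := k) (V := k'), hk]
  have hN : Zeta.nPts f e = Nat.card (Pts f k') := by rw [← hk, ← (Zeta24.pointCount_facts f k').2]; rfl
  have := Zeta30.finite_points (f ≫ Zeta30.specToInt k) k'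
  have : Finite (Pts f k') := Finite.of_injective (fun g => g.1) Subtype.val_injective
  let cond : Option top → Set X := fun o => o.elim R fun Z => (U Z : Set X)
  have huniq : ∀ (x : X) (o o' : Option top), x ∈ cond o → x ∈ cond o' → o = o' := by
    intro x o o' h h'
    rcases o with _ | Z <;> rcases o' with _ | Z'
    · rfl
    · exact absurd (Set.mem_iUnion.2 ⟨Z', h'⟩) h
    · exact absurd (Set.mem_iUnion.2 ⟨Z, h⟩) h'
    · by_contra hne
      exact Set.disjoint_left.1 (hdisj Z Z'.1 Z'.2.1 fun h => hne (congrArg some (Subtype.ext h.symm))) h (hUZ Z' h')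
  have hcard : Nat.card (Pts f k') = Nat.card {g : Pts f k' // loc f g ∈ R} +
      ∑ Z, Nat.card {g : Pts f k' // loc f g ∈ (U Z : Set X)} := by
    rw [← Nat.card_congr (Equiv.ofBijective (fun p : Σ o : Option top, {g : Pts f k' // loc f g ∈ cond o} => p.2.1)
      ⟨fun p p' h => Sigma.subtype_ext (huniq _ _ _ p.2.2 (by rw [show p.2.1 = p'.2.1 from h]; exact p'.2.2)) h,
        fun g => ?_⟩), Nat.card_sigma, Fintype.sum_option]
    · rfl
    · by_cases hg : loc f g ∈ R
      · exact ⟨⟨none, g, hg⟩, rfl⟩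
      · obtain ⟨Z, hZ⟩ := Set.mem_iUnion.1 (not_not.1 hg)
        exact ⟨⟨some Z, g, hZ⟩, rfl⟩
  have hsum : a = ∑ Z : top, if geomCount f Z.1 ∣ e then geomCount f Z.1 else 0 := by
    rw [ha]
    refine (finsum_mem_eq_sum_of_inter_support_eq (s := {Z | Z ∈ irreducibleComponents X ∧
        topologicalKrullDim Z = r ∧ geomCount f Z ∣ e}) (t := ((Finset.univ : Finset top).filter
        fun Z => geomCount f Z.1 ∣ e).image Subtype.val) (geomCount f) ?_).trans ?_
    · ext Z
      simp [top, and_assoc]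
      tauto
    · rw [Finset.sum_image fun _ _ _ _ h => Subtype.ext h, Finset.sum_filter]
  have hq0 : (0 : ℝ) < Nat.card k := Nat.cast_pos.2 Nat.card_pos
  have hQR : (Nat.card k' : ℝ) = (Nat.card k : ℝ) ^ e := by rw [hQ, Nat.cast_pow]
  have h1 := hcR k'
  rw [hN, hcard, Nat.cast_add, Nat.cast_sum, ← rpow_half e r _ hq0, ← rpow_one e r _ hq0, ← hQR,
    pow_mul, ← hQR]
  have hsq := div_card_le r (Nat.card k') Nat.card_pos
  constructor
  · intro _
    rw [hsum, Nat.cast_sum, Finset.sum_mul, add_sub_assoc, ← Finset.sum_sub_distrib,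
      add_comm (∑ Z, c Z) cR, add_mul cR, Finset.sum_mul]
    refine (abs_add_le _ _).trans (add_le_add ?_ ((Finset.abs_sum_le_sum_abs _ _).trans
      (Finset.sum_le_sum fun Z _ => ?_)))
    · rw [Nat.abs_cast]
      exact h1.trans (mul_le_mul_of_nonneg_left hsq hcR0)
    · split_ifs with hd
      · exact (hc Z k').1 (hk ▸ hd)
      · rw [Nat.cast_zero, zero_mul, sub_zero, Nat.abs_cast]
        exact ((hc Z k').2 (hk ▸ hd)).trans (mul_le_mul_of_nonneg_left hsq (hc0 Z))
  · intro h0
    rw [hsum, Finset.sum_eq_zero_iff] at h0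
    rw [add_comm (∑ Z, c Z) cR, add_mul cR, Finset.sum_mul]
    refine add_le_add h1 (Finset.sum_le_sum fun Z _ => (hc Z k').2 ?_)
    intro hd
    have := h0 Z (Finset.mem_univ _)
    rw [if_pos (hk ▸ hd)] at this
    exact absurd this (hpos Z).ne'

end Groth.Agent.LW24
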