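import Groth.Agent.LW24.Induction
import Mathlib.FieldTheory.SeparableClosure
import Mathlib.FieldTheory.Finite.GaloisField

/-!
Points of a model of a function field whose field of constants is bigger than the base field.
-/

set_option autoImplicit false
set_option linter.style.haveILetI false

open Polynomial

namespace Groth.Agent.LW24

universe u

variable {k : Type u} [Field k]

/-- Points over `k` as points over the field of constants. -/
theorem npts_restrictScalars {K L : Type u} [Field K] [Field L] [Algebra k K] [Algebra k L] [Algebra K L]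
    [IsScalarTower k K L] (T : Subalgebra K L) (hT : T.FG) [Module.Finite k K] (k' : Type u) [Field k']
    [Algebra k k'] [Finite k'] (n : ℝ) (c : ℝ)
    (h : ∀ σ : K →ₐ[k] k', letI := σ.toRingHom.toAlgebra; |(npts (k := K) T k' : ℝ) - n| ≤ c) :
    |(npts (k := k) (T.restrictScalars k) k' : ℝ) - Nat.card (K →ₐ[k] k') * n| ≤ Nat.card (K →ₐ[k] k') * c := by
  classical
  have : Algebra.FiniteType k K := inferInstance
  have := finite_algHom (k := k) K k'
  letI := Fintype.ofFinite (K →ₐ[k] k')
  have : Algebra.FiniteType K T := (Subalgebra.fg_iff_finiteType T).1 hT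
  let e : ((T.restrictScalars k) →ₐ[k] k') ≃
      Σ σ : K →ₐ[k] k', {φ : T →+* k' // φ.comp (algebraMap K T) = σ.toRingHom} :=
    { toFun := fun φ => ⟨φ.comp ((IsScalarTower.toAlgHom k K T) : K →ₐ[k] (T.restrictScalars k)), φ.toRingHom, rfl⟩
      invFun := fun p => AlgHom.mk p.2.1 fun r => by
        have h := DFunLike.congr_fun p.2.2 (algebraMap k K r)
        exact (congrArg p.2.1 (Subtype.ext (IsScalarTower.algebraMap_apply k K L r))).trans
          (h.trans (p.1.commutes r))
      left_inv := fun φ => rfl
      right_inv := fun p => Sigma.subtype_ext (AlgHom.ext fun x => DFunLike.congr_fun p.2.2 x) rfl }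
  have hfib : ∀ σ : K →ₐ[k] k', letI := σ.toRingHom.toAlgebra
      Nat.card {φ : T →+* k' // φ.comp (algebraMap K T) = σ.toRingHom} = npts (k := K) T k' := by
    intro σ
    letI := σ.toRingHom.toAlgebra
    exact Nat.card_congr
      { toFun := fun φ => AlgHom.mk φ.1 fun r => DFunLike.congr_fun φ.2 r
        invFun := fun ψ => ⟨ψ.toRingHom, RingHom.ext ψ.commutes⟩
        left_inv := fun φ => rfl
        right_inv := fun ψ => rfl }
  have : ∀ σ : K →ₐ[k] k', Finite {φ : T →+* k' // φ.comp (algebraMap K T) = σ.toRingHom} := fun σ => by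
    letI := σ.toRingHom.toAlgebra
    have := finite_algHom (k := K) T k'
    exact Finite.of_injective (β := T →ₐ[K] k') (fun φ => AlgHom.mk φ.1 fun r => DFunLike.congr_fun φ.2 r)
      fun a b hab => Subtype.ext (congrArg AlgHom.toRingHom hab)
  rw [npts, Nat.card_congr e, Nat.card_sigma, Nat.cast_sum, Nat.card_eq_fintype_card (α := K →ₐ[k] k')]
  rw [← Finset.card_univ, ← nsmul_eq_mul, ← Finset.sum_const, ← Finset.sum_sub_distrib,
    ← nsmul_eq_mul, ← Finset.sum_const]
  refine (Finset.abs_sum_le_sum_abs _ _).trans (Finset.sum_le_sum fun σ _ => ?_)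
  rw [hfib σ]
  exact h σ

set_option maxHeartbeats 400000 in
/-- The point count of a model of an arbitrary finitely generated field. -/
theorem points_bound_general [Finite k] (r : ℕ) (L : Type u) [Field L] [Algebra k L] [Algebra.EssFiniteType k L]
    (hr : Algebra.trdeg k L = (r : ℕ)) [FiniteDimensional k (separableClosure k L)]
    (S : Subalgebra k L) (hS : S.FG) (hfull : IsFull S) :
    ∃ c : ℝ, 0 ≤ c ∧ ∀ (k' : Type u) [Field k'] [Algebra k k'] [Finite k'],
      (Module.finrank k (separableClosure k L) ∣ Module.finrank k k' →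
        |(npts (k := k) S k' : ℝ) - Module.finrank k (separableClosure k L) * (Nat.card k' : ℝ) ^ r| ≤
          c * ((Nat.card k' : ℝ) ^ r / Real.sqrt (Nat.card k'))) ∧
      (¬ Module.finrank k (separableClosure k L) ∣ Module.finrank k k' →
        (npts (k := k) S k' : ℝ) ≤ c * ((Nat.card k' : ℝ) ^ r / Nat.card k')) := by
  classical
  let K := separableClosure k L
  have : Finite K := Module.finite_of_finite k
  obtain ⟨s, hs⟩ := hS
  have hSfg : S.FG := ⟨s, hs⟩
  let T : Subalgebra K L := Algebra.adjoin K (s : Set L)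
  have hT : T.FG := ⟨s, rfl⟩
  have hle : S ≤ T.restrictScalars k := by
    rw [← hs]
    exact Algebra.adjoin_le fun z hz => Algebra.subset_adjoin hz
  have hTk : (T.restrictScalars k).FG := by
    have : Algebra.FiniteType K T := (Subalgebra.fg_iff_finiteType T).1 hT
    have : Algebra.FiniteType k T := Algebra.FiniteType.trans (S := K) inferInstance this
    exact (Subalgebra.fg_iff_finiteType (T.restrictScalars k)).2 this
  have hfullT : IsFull T := fun z => by
    obtain ⟨a, b, hb, hz⟩ := hfull z
    exact ⟨⟨a, hle a.2⟩, ⟨b, hle b.2⟩, hb, hz⟩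
  have hess : Algebra.EssFiniteType K L := Algebra.EssFiniteType.of_comp k K L
  have hclosed : ∀ z : L, IsAlgebraic K z → z ∈ Set.range (algebraMap K L) := fun z hz => by
    have halg : IsAlgebraic k z := hz.restrictScalars k
    exact ⟨⟨z, mem_separableClosure_iff.2
      (PerfectField.separable_of_irreducible (minpoly.irreducible halg.isIntegral))⟩, rfl⟩
  have hrK : Algebra.trdeg K L = (r : ℕ) := by
    have h := trdeg_add_eq k K (A := L)
    rwa [trdeg_eq_zero (R := k) (A := K), zero_add, hr] at h
  obtain ⟨c₁, h₁⟩ := points_bound K r L hclosed hrK T hT hfullT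
  obtain ⟨c₂, h₂⟩ := exists_bound_le r hr.le S (T.restrictScalars k) hSfg hTk hle hfull
  refine ⟨Module.finrank k K * |c₁| + |c₂|, by positivity, fun k' _ _ _ => ?_⟩
  have hQ : (0 : ℝ) < Nat.card k' := Nat.cast_pos.2 Nat.card_pos
  have e2 := ((h₂ k').trans (mul_le_mul_of_nonneg_right (le_abs_self c₂) (by positivity)))
  constructor
  · intro hdvd
    have hcard : Nat.card (K →ₐ[k] k') = Module.finrank k K := FiniteField.natCard_algHom_of_finrank_dvd hdvd
    have e1 := npts_restrictScalars (k := k) T hT k' ((Nat.card k' : ℝ) ^ r)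
      (|c₁| * ((Nat.card k' : ℝ) ^ r / Real.sqrt (Nat.card k'))) (fun σ => by
        letI := σ.toRingHom.toAlgebra
        exact (h₁ k').trans (mul_le_mul_of_nonneg_right (le_abs_self c₁) (by positivity)))
    rw [hcard] at e1
    have e3 := e2.trans (mul_le_mul_of_nonneg_left (div_card_le r (Nat.card k') Nat.card_pos) (abs_nonneg c₂))
    rw [abs_sub_comm] at e3
    refine (abs_sub_le _ _ _).trans ((add_le_add e3 e1).trans (le_of_eq ?_))
    ring
  · intro hdvd
    have hT0 : npts (k := k) (T.restrictScalars k) k' = 0 := by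
      have : IsEmpty ((T.restrictScalars k) →ₐ[k] k') := ⟨fun φ => hdvd
        (FiniteField.nonempty_algHom_iff_finrank_dvd.1
          ⟨φ.comp (IsScalarTower.toAlgHom k K T : K →ₐ[k] (T.restrictScalars k))⟩)⟩
      simp [npts]
    rw [hT0, Nat.cast_zero, zero_sub, abs_neg, Nat.abs_cast] at e2
    refine e2.trans (mul_le_mul_of_nonneg_right ?_ (by positivity))
    have : (0 : ℝ) ≤ Module.finrank k K * |c₁| := by positivity
    linarith

end Groth.Agent.LW24
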