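import Groth.Agent.LW24.Denominator
import Groth.Agent.Zeta30.PlaneCount

/-!
Places of degree one of a plane curve `g(x, y) = 0` against its points with simple `y`-derivative.
-/

set_option autoImplicit false

open FunFld WithZero Polynomial
open scoped Multiplicative IntermediateField Polynomial.Bivariate

namespace Groth.Agent.LW24

open Groth.Agent.FF30 Groth.Agent.Zeta30

variable {F K : Type*} [Field F] [Field K] [Algebra F K] [Algebra F[X] K] [IsScalarTower F F[X] K]

local notation "x₀" => algebraMap F[X] K Polynomial.X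

theorem algebraMap_eq_aeval (p : F[X]) : algebraMap F[X] K p = aeval x₀ p := by
  rw [aeval_algebraMap_apply, aeval_X_left_apply]

theorem val_algebraMap_le (P : Place F K) (hx : P.1 x₀ ≤ 1) (p : F[X]) :
    P.1 (algebraMap F[X] K p) ≤ 1 := by
  induction p using Polynomial.induction_on' with
  | add p q hp hq => rw [map_add]; exact (P.1.map_add _ _).trans (max_le hp hq)
  | monomial n c =>
    rw [← C_mul_X_pow_eq_monomial, map_mul, map_pow, map_mul, map_pow,
      show algebraMap F[X] K (C c) = algebraMap F K c from (IsScalarTower.algebraMap_apply F F[X] K c).symm]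
    exact mul_le_one' (P.2.1 c) (pow_le_one' hx n)

theorem val_le_one_of_integral (P : Place F K) (hx : P.1 x₀ ≤ 1) {b : K} (hb : IsIntegral F[X] b) :
    P.1 b ≤ 1 := by
  let φ : F[X] →+* P.O := (algebraMap F[X] K).codRestrict P.O.toSubring fun p => val_algebraMap_le P hx p
  obtain ⟨q, hq, hqb⟩ := hb
  have hint : IsIntegral P.O b := ⟨q.map φ, hq.map φ, by rw [eval₂_map]; exact hqb⟩
  obtain ⟨c, hc⟩ := (IsIntegrallyClosed.isIntegral_iff (R := P.O)).mp hint
  exact hc ▸ c.2

theorem exists_res (P : Place F K) (hP : P.deg = 1) {z : K} (hz : P.1 z ≤ 1) :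
    ∃ c : F, P.1 (z - algebraMap F K c) < 1 := by
  have hne : algebraMap F (IsLocalRing.ResidueField P.O) 1 ≠ 0 := by simp
  obtain ⟨c, hc⟩ := (finrank_eq_one_iff_of_nonzero' _ hne).mp hP
    (IsLocalRing.residue P.O ⟨z, hz⟩)
  refine ⟨c, ?_⟩
  have h0 : IsLocalRing.residue P.O (⟨z, hz⟩ - algebraMap F P.O c) = 0 := by
    rw [map_sub, ← hc, map_one, sub_eq_zero]
    exact (Algebra.algebraMap_eq_smul_one c).symm
  rw [IsLocalRing.residue_eq_zero_iff] at h0
  exact (Valuation.mem_maximalIdeal_iff (v := P.1)).mp h0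

theorem res_unique (P : Place F K) {z : K} {c c' : F} (h : P.1 (z - algebraMap F K c) < 1)
    (h' : P.1 (z - algebraMap F K c') < 1) : c = c' := by
  by_contra hne
  have h1 := val_eq_one_of_isAlgebraic P (isAlgebraic_algebraMap (R := F) (A := K) (c' - c))
    ((map_ne_zero (algebraMap F K)).2 (sub_ne_zero.2 (Ne.symm hne)))
  have h2 : algebraMap F K (c' - c) = (z - algebraMap F K c) - (z - algebraMap F K c') := by
    rw [map_sub]; ring
  rw [h2] at h1
  exact ((P.1.map_sub _ _).trans_lt (max_lt h h')).ne h1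

theorem deg_eq_one (P : Place F K) (h : ∀ z : K, P.1 z ≤ 1 → ∃ c : F, P.1 (z - algebraMap F K c) < 1) :
    P.deg = 1 := by
  refine (finrank_eq_one_iff_of_nonzero' (algebraMap F (IsLocalRing.ResidueField P.O) 1) (by simp)).mpr ?_
  intro w
  obtain ⟨⟨z, hz⟩, rfl⟩ := IsLocalRing.residue_surjective w
  obtain ⟨c, hc⟩ := h z hz
  refine ⟨c, ?_⟩
  rw [map_one]
  refine (Algebra.algebraMap_eq_smul_one c).symm.trans (sub_eq_zero.1 ?_)
  show IsLocalRing.residue P.O (algebraMap F P.O c) - _ = 0
  rw [← map_sub, IsLocalRing.residue_eq_zero_iff]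
  refine (Valuation.mem_maximalIdeal_iff (v := P.1)).mpr ?_
  show P.1 (algebraMap F K c - z) < 1
  rwa [Valuation.map_sub_swap]

theorem val_eq_one_of_res (P : Place F K) {z : K} {c : F} (hc : c ≠ 0)
    (h : P.1 (z - algebraMap F K c) < 1) : P.1 z = 1 := by
  have h1 := val_eq_one_of_isAlgebraic P (isAlgebraic_algebraMap (R := F) (A := K) c)
    ((map_ne_zero (algebraMap F K)).2 hc)
  have h2 := P.1.map_add_eq_of_lt_left (x := algebraMap F K c) (y := z - algebraMap F K c) (by rwa [h1])
  rwa [add_sub_cancel, h1] at h2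

variable {y : K} {g : F[X][Y]}

/-- Residue of an element of the coordinate ring. -/
theorem res_aeval (P : Place F K) (hx : P.1 x₀ ≤ 1) (hy : IsIntegral F[X] y) {a b : F}
    (ha : P.1 (x₀ - algebraMap F K a) < 1) (hb : P.1 (y - algebraMap F K b) < 1) (G : F[X][Y]) :
    P.1 (aeval y G - algebraMap F K (evp a b G)) < 1 := by
  obtain ⟨A, hA⟩ := Polynomial.X_sub_C_dvd_sub_C_eval (a := (C b : F[X])) (p := G)
  obtain ⟨B, hB⟩ := Polynomial.X_sub_C_dvd_sub_C_eval (a := a) (p := G.eval (C b))
  have hev : (G.eval (C b)).eval a = evp a b G := by rw [evp_apply]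
  have hCF : ∀ c : F, algebraMap F[X] K (C c) = algebraMap F K c := fun c =>
    (IsScalarTower.algebraMap_apply F F[X] K c).symm
  have h1 : aeval y G - algebraMap F K (evp a b G) =
      (y - algebraMap F K b) * aeval y A + (x₀ - algebraMap F K a) * algebraMap F[X] K B := by
    have e1 := congrArg (aeval y) hA
    have e2 := congrArg (algebraMap F[X] K) hB
    simp only [map_sub, map_mul, aeval_C, aeval_X, hCF, hev] at e1 e2
    rw [← e1, ← e2]
    ring
  rw [h1]
  refine (P.1.map_add _ _).trans_lt (max_lt ?_ ?_) <;> rw [map_mul]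
  · refine (mul_le_of_le_one_right' (val_le_one_of_integral P hx ?_)).trans_lt hb
    exact adjoin_le_integralClosure hy (Algebra.adjoin_singleton_eq_range_aeval F[X] y ▸ ⟨A, rfl⟩)
  · exact (mul_le_of_le_one_right' (val_algebraMap_le P hx B)).trans_lt ha

/-- The setting of a plane model. -/
structure Model (y : K) (g : F[X][Y]) : Prop where
  ff : FF F K
  int : IsIntegral F[X] y
  root : aeval y g = 0
  dvd : ∀ G : F[X][Y], aeval y G = 0 → g ∣ G
  deriv : ∀ a : K, IsIntegral F[X] a → ∃ G : F[X][Y], aeval y G = aeval y (derivative g) * a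
  prim : ∀ z : K, ∃ p : F[X][Y], p.IsPrimitive ∧ aeval z p = 0
  trans : Transcendental F x₀

variable (M : Model y g)
include M

theorem Model.denominator (P : Place F K) (hx : P.1 x₀ ≤ 1) {a : F}
    (ha : P.1 (x₀ - algebraMap F K a) < 1) {z : K} (hz : P.1 z ≤ 1) :
    ∃ b : K, IsIntegral F[X] b ∧ IsIntegral F[X] (b * z) ∧ P.1 b = 1 := by
  obtain ⟨p, hp, hp0⟩ := M.prim z
  refine exists_unit_denominator P.1 p hp0 (fun b hb => val_le_one_of_integral P hx hb) ?_ hz
  by_contra hno
  push Not at hno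
  have hroot : ∀ i, (p.coeff i).eval a = 0 := fun i => by
    by_contra h
    refine hno i (val_eq_one_of_res P h ?_)
    obtain ⟨B, hB⟩ := Polynomial.X_sub_C_dvd_sub_C_eval (a := a) (p := p.coeff i)
    have e := congrArg (algebraMap F[X] K) hB
    simp only [map_sub, map_mul, show algebraMap F[X] K (C _) = algebraMap F K _ from
      (IsScalarTower.algebraMap_apply F F[X] K _).symm] at e
    rw [e, map_mul]
    exact (mul_le_of_le_one_right' (val_algebraMap_le P hx B)).trans_lt ha
  have hdvd : C (X - C a) ∣ p := (C_dvd_iff_dvd_coeff _ _).2 fun i => dvd_iff_isRoot.2 (hroot i)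
  exact not_isUnit_X_sub_C a (hp _ hdvd)

/-- Residues at a place over a point with nonzero derivative. -/
theorem Model.res_integral (P : Place F K) (hx : P.1 x₀ ≤ 1) {a b : F}
    (ha : P.1 (x₀ - algebraMap F K a) < 1) (hb : P.1 (y - algebraMap F K b) < 1)
    (hd : evp a b (derivative g) ≠ 0) {z : K} (hz : IsIntegral F[X] z) {G : F[X][Y]}
    (hG : aeval y G = aeval y (derivative g) * z) :
    P.1 (z - algebraMap F K (evp a b G / evp a b (derivative g))) < 1 := by
  set c := evp a b G / evp a b (derivative g)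
  have hG' : P.1 (aeval y G - algebraMap F K (evp a b G)) < 1 := res_aeval P hx M.int ha hb G
  have hg' : P.1 (aeval y (derivative g) - algebraMap F K (evp a b (derivative g))) < 1 :=
    res_aeval P hx M.int ha hb _
  have hu := val_eq_one_of_res P hd hg'
  have hid : aeval y (derivative g) * (z - algebraMap F K c) =
      (aeval y G - algebraMap F K (evp a b G)) -
        (aeval y (derivative g) - algebraMap F K (evp a b (derivative g))) * algebraMap F K c := by
    rw [hG, show algebraMap F K (evp a b G) =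
      algebraMap F K (evp a b (derivative g)) * algebraMap F K c by
        rw [← map_mul, mul_div_cancel₀ _ hd]]
    ring
  have h2 : P.1 (aeval y (derivative g) * (z - algebraMap F K c)) < 1 := by
    rw [hid]
    refine (P.1.map_sub _ _).trans_lt (max_lt hG' ?_)
    rw [map_mul]
    exact (mul_le_of_le_one_right' (P.2.1 c)).trans_lt hg'
  rwa [map_mul, hu, one_mul] at h2

/-- Residue of an arbitrary integer of the place, read from the point. -/
theorem Model.res_point (P : Place F K) (hx : P.1 x₀ ≤ 1) {a b : F}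
    (ha : P.1 (x₀ - algebraMap F K a) < 1) (hb : P.1 (y - algebraMap F K b) < 1)
    (hd : evp a b (derivative g) ≠ 0) {z : K} (hz : P.1 z ≤ 1) :
    ∃ (w w' : K) (G G' : F[X][Y]), IsIntegral F[X] w ∧ IsIntegral F[X] w' ∧ w' = w * z ∧
      aeval y G = aeval y (derivative g) * w ∧ aeval y G' = aeval y (derivative g) * w' ∧
      evp a b G ≠ 0 ∧ P.1 (z - algebraMap F K (evp a b G' / evp a b G)) < 1 := by
  obtain ⟨w, hw, hw', hw1⟩ := M.denominator P hx ha hz
  obtain ⟨G, hG⟩ := M.deriv w hw
  obtain ⟨G', hG'⟩ := M.deriv (w * z) hw'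
  have h1 := M.res_integral P hx ha hb hd hw hG
  have h2 := M.res_integral P hx ha hb hd hw' hG'
  have hne : evp a b G ≠ 0 := fun h0 => by
    rw [h0, zero_div, map_zero, sub_zero] at h1
    exact h1.ne hw1
  refine ⟨w, w * z, G, G', hw, hw', rfl, hG, hG', hne, ?_⟩
  set d := evp a b G' / evp a b G
  have he : algebraMap F K (evp a b G' / evp a b (derivative g)) =
      algebraMap F K d * algebraMap F K (evp a b G / evp a b (derivative g)) := by
    rw [← map_mul, div_mul_div_cancel₀ hne]
  rw [he] at h2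
  have hid : w * (z - algebraMap F K d) =
      (w * z - algebraMap F K d * algebraMap F K (evp a b G / evp a b (derivative g))) -
        algebraMap F K d * (w - algebraMap F K (evp a b G / evp a b (derivative g))) := by ring
  have h3 : P.1 (w * (z - algebraMap F K d)) < 1 := by
    rw [hid]
    refine (P.1.map_sub _ _).trans_lt (max_lt h2 ?_)
    rw [map_mul]
    exact (mul_le_of_le_one_left' (P.2.1 d)).trans_lt h1
  rwa [map_mul, hw1, one_mul] at h3

theorem Model.deg_one_of_point (P : Place F K) (hx : P.1 x₀ ≤ 1) {a b : F}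
    (ha : P.1 (x₀ - algebraMap F K a) < 1) (hb : P.1 (y - algebraMap F K b) < 1)
    (hd : evp a b (derivative g) ≠ 0) : P.deg = 1 :=
  deg_eq_one P fun _ hz => by
    obtain ⟨_, _, _, _, -, -, -, -, -, -, h⟩ := M.res_point P hx ha hb hd hz
    exact ⟨_, h⟩

theorem Model.place_unique (P Q : Place F K) (hx : P.1 x₀ ≤ 1) (hx' : Q.1 x₀ ≤ 1) {a b : F}
    (ha : P.1 (x₀ - algebraMap F K a) < 1) (hb : P.1 (y - algebraMap F K b) < 1)
    (ha' : Q.1 (x₀ - algebraMap F K a) < 1) (hb' : Q.1 (y - algebraMap F K b) < 1)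
    (hd : evp a b (derivative g) ≠ 0) : P = Q := by
  refine eq_of_val_le_one_imp fun z hz => ?_
  obtain ⟨w, w', G, G', hw, hw', hww, hG, -, hne, -⟩ := M.res_point P hx ha hb hd hz
  have hQw : Q.1 w = 1 := val_eq_one_of_res Q (div_ne_zero hne hd) (M.res_integral Q hx' ha' hb' hd hw hG)
  have h := val_le_one_of_integral Q hx' hw'
  rwa [hww, map_mul, hQw, one_mul] at h

theorem Model.exists_place_over {a b : F} (h0 : evp a b g = 0) :
    ∃ P : Place F K, P.1 x₀ ≤ 1 ∧ P.1 (x₀ - algebraMap F K a) < 1 ∧ P.1 (y - algebraMap F K b) < 1 := by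
  classical
  let A : Subring K := (aeval (R := F[X]) y).toRingHom.range
  have hA : ∀ G : F[X][Y], aeval y G ∈ A := fun G => ⟨G, rfl⟩
  let ψ : F[X][Y] →+* A := (aeval (R := F[X]) y).toRingHom.rangeRestrict
  let I : Ideal A := Ideal.map ψ (RingHom.ker (evp a b))
  have hI : I ≠ ⊤ := by
    intro htop
    obtain ⟨G, hG, hG1⟩ := (Ideal.mem_map_iff_of_surjective ψ (RingHom.rangeRestrict_surjective _)).1
      (htop.symm ▸ Submodule.mem_top : (1 : A) ∈ I)
    obtain ⟨t, ht⟩ := M.dvd (G - 1) (by
      rw [map_sub, map_one, sub_eq_zero]; exact congrArg Subtype.val hG1)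
    have h := congrArg (evp a b) ht
    rw [map_sub, map_one, RingHom.mem_ker.1 hG, map_mul, h0, zero_mul, zero_sub, neg_eq_zero] at h
    exact one_ne_zero h
  obtain ⟨V, hAV, hIV⟩ := Ideal.image_subset_nonunits_valuationSubring I hI
  have hmem : ∀ G : F[X][Y], evp a b G = 0 → aeval y G ∈ V.nonunits := fun G hG =>
    hIV ⟨ψ G, Ideal.mem_map_of_mem ψ (RingHom.mem_ker.2 hG), rfl⟩
  have hCF : ∀ c : F, aeval y (C (C c) : F[X][Y]) = algebraMap F K c := fun c => by
    rw [aeval_C]
    exact (IsScalarTower.algebraMap_apply F F[X] K c).symm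
  have hxa := hmem (C X - C (C a)) (by simp [evp])
  have hyb := hmem (Polynomial.X - C (C b)) (by simp [evp])
  rw [map_sub, hCF, aeval_C] at hxa
  rw [map_sub, hCF, aeval_X] at hyb
  have hxa0 : x₀ - algebraMap F K a ≠ 0 := fun h => M.trans (sub_eq_zero.1 h ▸ isAlgebraic_algebraMap a)
  have hV : V ≠ ⊤ := by
    rintro rfl
    rcases (ValuationSubring.mem_nonunits_iff_or _).mp hxa with h | h
    · exact hxa0 h
    · exact h (ValuationSubring.mem_top _)
  obtain ⟨P, rfl⟩ := M.ff.exists_place V (fun c => hAV (hCF c ▸ hA _)) hV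
  have hlt : ∀ z : K, z ∈ P.O.nonunits → P.1 z < 1 := fun z hz => by
    rcases (ValuationSubring.mem_nonunits_iff_or _).mp hz with h | h
    · simp [h]
    · by_contra hle
      rw [not_lt] at hle
      exact h (show P.1 z⁻¹ ≤ 1 by rw [map_inv₀]; exact inv_le_one_of_one_le₀ hle)
  refine ⟨P, ?_, hlt _ hxa, hlt _ hyb⟩
  have h := hAV (hA (C X))
  rw [aeval_C] at h
  exact h

end Groth.Agent.LW24
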